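/-
Similarity of matrices over possibly different index types, cyclic matrices, Sylvester equations,
and commutator data with prescribed determinants.
-/
import Mathlib

set_option autoImplicit false
set_option linter.unusedSectionVars false

namespace Cfsg.Agent.H60.Ore

open Matrix Polynomial

variable {F : Type*} [Field F]
variable {ι κ μ ν : Type} [Fintype ι] [DecidableEq ι] [Fintype κ] [DecidableEq κ]
  [Fintype μ] [DecidableEq μ] [Fintype ν] [DecidableEq ν]

/-- Similarity. -/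
def Sim (A : Matrix ι ι F) (B : Matrix κ κ F) : Prop :=
  ∃ (P : Matrix ι κ F) (Q : Matrix κ ι F), P * Q = 1 ∧ Q * P = 1 ∧ A * P = P * B

theorem Sim.refl (A : Matrix ι ι F) : Sim A A := ⟨1, 1, by simp, by simp, by simp⟩

theorem Sim.of_eq {A B : Matrix ι ι F} (h : A = B) : Sim A B := h ▸ Sim.refl A

theorem Sim.symm {A : Matrix ι ι F} {B : Matrix κ κ F} (h : Sim A B) : Sim B A := by
  obtain ⟨P, Q, h1, h2, h3⟩ := h
  refine ⟨Q, P, h2, h1, ?_⟩
  calc B * Q = (Q * P) * B * Q := by rw [h2, Matrix.one_mul]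
    _ = Q * (P * B) * Q := by simp [Matrix.mul_assoc]
    _ = Q * (A * P) * Q := by rw [h3]
    _ = Q * A * (P * Q) := by simp [Matrix.mul_assoc]
    _ = Q * A := by rw [h1, Matrix.mul_one]

theorem Sim.trans {A : Matrix ι ι F} {B : Matrix κ κ F} {C : Matrix μ μ F} (h : Sim A B)
    (h' : Sim B C) : Sim A C := by
  obtain ⟨P, Q, h1, h2, h3⟩ := h
  obtain ⟨P', Q', h1', h2', h3'⟩ := h'
  refine ⟨P * P', Q' * Q, ?_, ?_, ?_⟩
  · rw [Matrix.mul_assoc, ← Matrix.mul_assoc P', h1', Matrix.one_mul, h1]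
  · rw [Matrix.mul_assoc, ← Matrix.mul_assoc Q, h2, Matrix.one_mul, h2']
  · rw [← Matrix.mul_assoc, h3, Matrix.mul_assoc, h3', Matrix.mul_assoc]

theorem Sim.submatrix (A : Matrix ι ι F) (e : κ ≃ ι) : Sim A (A.submatrix e e) := by
  refine ⟨(1 : Matrix ι ι F).submatrix id e, (1 : Matrix ι ι F).submatrix e id, ?_, ?_, ?_⟩
  · rw [submatrix_mul_equiv, Matrix.one_mul, submatrix_id_id]
  · rw [show (id : ι → ι) = Equiv.refl ι from rfl, submatrix_mul_equiv, Matrix.one_mul,
      submatrix_one_equiv]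
  · rw [submatrix_mul_equiv, Matrix.one_mul]
    have h : A * (1 : Matrix ι ι F).submatrix id e = A.submatrix id e := by
      ext i j; simp [Matrix.mul_apply, Matrix.one_apply]
    rw [h]

theorem Sim.blocks {A : Matrix ι ι F} {B : Matrix κ κ F} {A' : Matrix μ μ F} {B' : Matrix ν ν F}
    (h : Sim A A') (h' : Sim B B') : Sim (fromBlocks A 0 0 B) (fromBlocks A' 0 0 B') := by
  obtain ⟨P, Q, h1, h2, h3⟩ := h
  obtain ⟨P', Q', h1', h2', h3'⟩ := h'
  exact ⟨fromBlocks P 0 0 P', fromBlocks Q 0 0 Q', by simp [fromBlocks_multiply, h1, h1'],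
    by simp [fromBlocks_multiply, h2, h2'], by simp [fromBlocks_multiply, h3, h3']⟩

theorem Sim.comm (A : Matrix ι ι F) (B : Matrix κ κ F) :
    Sim (fromBlocks A 0 0 B) (fromBlocks B 0 0 A) :=
  (Sim.submatrix _ (Equiv.sumComm κ ι)).trans (Sim.of_eq (by ext (i | i) (j | j) <;> rfl))

theorem Sim.assoc (A : Matrix ι ι F) (B : Matrix κ κ F) (C : Matrix μ μ F) :
    Sim (fromBlocks (fromBlocks A 0 0 B) 0 0 C) (fromBlocks A 0 0 (fromBlocks B 0 0 C)) :=
  (Sim.submatrix _ (Equiv.sumAssoc ι κ μ).symm).trans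
    (Sim.of_eq (by ext (i | i | i) (j | j | j) <;> rfl))

theorem Sim.right_comm (A : Matrix ι ι F) (B : Matrix κ κ F) (C : Matrix μ μ F) :
    Sim (fromBlocks (fromBlocks A 0 0 B) 0 0 C) (fromBlocks (fromBlocks A 0 0 C) 0 0 B) :=
  ((Sim.assoc A B C).trans ((Sim.refl A).blocks (Sim.comm B C))).trans (Sim.assoc A C B).symm

theorem Sim.empty (A : Matrix ι ι F) (B : Matrix κ κ F) [IsEmpty κ] :
    Sim (fromBlocks A 0 0 B) A := by
  refine (Sim.submatrix _ (Equiv.sumEmpty ι κ).symm).trans (Sim.of_eq ?_)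
  ext i j
  rfl

theorem Sim.det_eq {A : Matrix ι ι F} {B : Matrix κ κ F} (h : Sim A B) : A.det = B.det := by
  obtain ⟨P, Q, h1, h2, h3⟩ := h
  have : A = P * B * Q := by rw [← h3, Matrix.mul_assoc, h1, Matrix.mul_one]
  rw [this, Matrix.det_conj_of_mul_eq_one h1 h2]

theorem Sim.charpoly_eq {A : Matrix ι ι F} {B : Matrix κ κ F} (h : Sim A B) :
    A.charpoly = B.charpoly := by
  obtain ⟨P, Q, h1, h2, h3⟩ := h
  have hA : A = P * (B * Q) := by rw [← Matrix.mul_assoc, ← h3, Matrix.mul_assoc, h1, Matrix.mul_one]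
  have hB : B = (B * Q) * P := by rw [Matrix.mul_assoc, h2, Matrix.mul_one]
  have hc : Fintype.card ι = Fintype.card κ := Fintype.card_congr (Matrix.indexEquivOfInv h1 h2)
  have h := Matrix.charpoly_mul_comm' P (B * Q)
  rw [← hA, ← hB, hc] at h
  exact (Polynomial.isRegular_X_pow _).left h

theorem Sim.aeval_intertwine {A : Matrix ι ι F} {B : Matrix κ κ F} {P : Matrix ι κ F}
    (h : A * P = P * B) (R : F[X]) : aeval A R * P = P * aeval B R := by
  induction R using Polynomial.induction_on with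
  | C a =>
    rw [aeval_C, aeval_C, Matrix.algebraMap_eq_diagonal, Matrix.algebraMap_eq_diagonal]
    ext i j
    simp [mul_comm]
  | add p q hp hq => rw [map_add, map_add, Matrix.add_mul, Matrix.mul_add, hp, hq]
  | monomial k a hk =>
    rw [pow_succ, ← mul_assoc, map_mul, map_mul _ (C a * X ^ k) X, aeval_X, aeval_X,
      Matrix.mul_assoc, h, ← Matrix.mul_assoc, hk, Matrix.mul_assoc]

/-- Data exhibiting `g` as a commutator with determinants `δ` and `β`. -/
def Com (g : Matrix ι ι F) (δ β : F) : Prop :=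
  ∃ a b : Matrix ι ι F, a.det = δ ∧ b.det = β ∧ a * b = g * b * a

theorem Com.of_sim {A : Matrix ι ι F} {B : Matrix κ κ F} {δ β : F} (h : Sim A B) (hc : Com B δ β) :
    Com A δ β := by
  obtain ⟨P, Q, h1, h2, h3⟩ := h
  obtain ⟨a, b, ha, hb, hab⟩ := hc
  refine ⟨P * a * Q, P * b * Q, by rw [Matrix.det_conj_of_mul_eq_one h1 h2, ha],
    by rw [Matrix.det_conj_of_mul_eq_one h1 h2, hb], ?_⟩
  have key : ∀ x y : Matrix κ κ F, P * x * Q * (P * y * Q) = P * (x * y) * Q := fun x y => by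
    simp only [Matrix.mul_assoc]
    rw [← Matrix.mul_assoc Q P, h2, Matrix.one_mul]
  have hA : A = P * B * Q := by rw [← h3, Matrix.mul_assoc, h1, Matrix.mul_one]
  rw [hA, key, key, key, hab]

theorem Com.sum {A : Matrix ι ι F} {B : Matrix κ κ F} {δ β δ' β' : F} (h : Com A δ β)
    (h' : Com B δ' β') : Com (fromBlocks A 0 0 B) (δ * δ') (β * β') := by
  obtain ⟨a, b, ha, hb, hab⟩ := h
  obtain ⟨a', b', ha', hb', hab'⟩ := h'
  exact ⟨fromBlocks a 0 0 a', fromBlocks b 0 0 b', by rw [det_fromBlocks_zero₂₁, ha, ha'],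
    by rw [det_fromBlocks_zero₂₁, hb, hb'], by simp [fromBlocks_multiply, hab, hab']⟩

theorem Com.right_mul {A : Matrix ι ι F} {δ β : F} (h : Com A δ β) : Com A (δ * β) β := by
  obtain ⟨a, b, ha, hb, hab⟩ := h
  refine ⟨a * b, b, by rw [det_mul, ha, hb], hb, ?_⟩
  rw [hab, Matrix.mul_assoc, Matrix.mul_assoc, Matrix.mul_assoc, hab, ← Matrix.mul_assoc A]

theorem Com.left_mul {A : Matrix ι ι F} {δ β : F} (h : Com A δ β) : Com A δ (β * δ) := by
  obtain ⟨a, b, ha, hb, hab⟩ := h
  exact ⟨a, b * a, ha, by rw [det_mul, hb, ha],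
    by rw [← Matrix.mul_assoc, hab, ← Matrix.mul_assoc A]⟩

theorem Com.one : Com (1 : Matrix ι ι F) 1 1 := ⟨1, 1, by simp, by simp, by simp⟩

/-- Every non-zero scalar is the determinant of a matrix commuting with `A`. -/
def CFull (A : Matrix ι ι F) : Prop := ∀ d : F, d ≠ 0 → ∃ c, c * A = A * c ∧ c.det = d

theorem CFull.of_sim {A : Matrix ι ι F} {B : Matrix κ κ F} (h : Sim A B) (hc : CFull B) :
    CFull A := by
  obtain ⟨P, Q, h1, h2, h3⟩ := h
  intro d hd
  obtain ⟨c, hc, hdc⟩ := hc d hd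
  refine ⟨P * c * Q, ?_, by rw [Matrix.det_conj_of_mul_eq_one h1 h2, hdc]⟩
  have hA : A = P * B * Q := by rw [← h3, Matrix.mul_assoc, h1, Matrix.mul_one]
  rw [hA]
  simp only [Matrix.mul_assoc]
  rw [← Matrix.mul_assoc Q P, h2, Matrix.one_mul, ← Matrix.mul_assoc Q P, h2, Matrix.one_mul,
    ← Matrix.mul_assoc c, hc, Matrix.mul_assoc]

theorem CFull.left {A : Matrix ι ι F} (h : CFull A) (B : Matrix κ κ F) :
    CFull (fromBlocks A 0 0 B) := fun d hd => by
  obtain ⟨c, hc, hdc⟩ := h d hd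
  exact ⟨fromBlocks c 0 0 1, by simp [fromBlocks_multiply, hc],
    by rw [det_fromBlocks_zero₂₁, hdc, det_one, mul_one]⟩

theorem CFull.right (A : Matrix ι ι F) {B : Matrix κ κ F} (h : CFull B) :
    CFull (fromBlocks A 0 0 B) := (h.left A).of_sim (Sim.comm A B)

theorem CFull.unique [Unique ι] (A : Matrix ι ι F) : CFull A := fun d _ =>
  ⟨diagonal fun _ => d, by
    ext i j
    rw [Subsingleton.elim i j, diagonal_mul, mul_diagonal, mul_comm], by simp⟩

/-- The left factor of commutator data. -/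
theorem exists_left {g U : Matrix ι ι F} (h : Sim (g * U) U) (hU : CFull U) (δ : F) (hδ : δ ≠ 0) :
    ∃ a : Matrix ι ι F, a.det = δ ∧ a * U = g * U * a := by
  obtain ⟨P, Q, h1, -, h3⟩ := h
  have hP : P.det ≠ 0 := fun h0 => by
    have := congrArg Matrix.det h1
    rw [det_mul, h0, zero_mul, det_one] at this
    exact zero_ne_one this
  obtain ⟨c, hc, hdc⟩ := hU (δ / P.det) (div_ne_zero hδ hP)
  refine ⟨P * c, by rw [det_mul, hdc, mul_div_cancel₀ _ hP], ?_⟩
  rw [Matrix.mul_assoc, hc, ← Matrix.mul_assoc, ← h3, Matrix.mul_assoc]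

/-- The basic way of producing commutator data. -/
theorem com_of_sim {g U : Matrix ι ι F} (h : Sim (g * U) U) (hU : CFull U) (δ : F) (hδ : δ ≠ 0) :
    Com g δ U.det :=
  let ⟨a, ha, hab⟩ := exists_left h hU δ hδ
  ⟨a, U, ha, rfl, hab⟩

/-- A cyclic matrix. -/
def Cyc (A : Matrix ι ι F) : Prop :=
  ∃ v : ι → F, ∀ R : F[X], aeval A R *ᵥ v = 0 → A.charpoly ∣ R

theorem cyc_of_small {A : Matrix ι ι F} (v : ι → F)
    (h : ∀ R : F[X], R.degree < (Fintype.card ι : WithBot ℕ) → aeval A R *ᵥ v = 0 → R = 0) :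
    Cyc A := by
  refine ⟨v, fun R hR => ?_⟩
  have hm := Matrix.charpoly_monic A
  refine (Polynomial.modByMonic_eq_zero_iff_dvd hm).1 (h _ ?_ ?_)
  · refine (Polynomial.degree_modByMonic_lt R hm).trans_eq ?_
    rw [Polynomial.degree_eq_natDegree hm.ne_zero, Matrix.charpoly_natDegree_eq_dim]
  · rw [Polynomial.modByMonic_eq_sub_mul_div, map_sub, map_mul, aeval_self_charpoly,
      Matrix.zero_mul, sub_zero, hR]

theorem Cyc.of_sim {A : Matrix ι ι F} {B : Matrix κ κ F} (h : Sim A B) (hB : Cyc B) : Cyc A := by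
  have hchi := h.charpoly_eq
  obtain ⟨P, Q, h1, h2, h3⟩ := h
  obtain ⟨v, hv⟩ := hB
  refine ⟨P *ᵥ v, fun R hR => hchi ▸ hv R ?_⟩
  rw [mulVec_mulVec, Sim.aeval_intertwine h3 R, ← mulVec_mulVec] at hR
  have := congrArg (fun w => Q *ᵥ w) hR
  simpa [mulVec_mulVec, h2, ← Matrix.mul_assoc] using this

theorem cyc_unique [Unique ι] (A : Matrix ι ι F) : Cyc A := by
  refine cyc_of_small (fun _ => 1) fun R hd hR => ?_
  rw [Fintype.card_unique, Nat.cast_one] at hd
  have h0 : R.degree ≤ 0 := Polynomial.natDegree_eq_zero_iff_degree_le_zero.1 (by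
    by_cases hR0 : R = 0
    · simp [hR0]
    · rw [Polynomial.degree_eq_natDegree hR0, ← Nat.cast_one, Nat.cast_lt] at hd
      omega)
  rw [eq_C_of_degree_le_zero h0, aeval_C] at hR
  have := congrFun hR default
  simp [Matrix.algebraMap_eq_diagonal, mulVec_diagonal] at this
  rw [eq_C_of_degree_le_zero h0, this, map_zero]

theorem aeval_fromBlocks (A : Matrix ι ι F) (B : Matrix κ κ F) (R : F[X]) :
    aeval (fromBlocks A 0 0 B) R = fromBlocks (aeval A R) 0 0 (aeval B R) := by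
  induction R using Polynomial.induction_on with
  | C a =>
    simp only [aeval_C, Matrix.algebraMap_eq_diagonal]
    rw [fromBlocks_diagonal]
    ext (i | i) (j | j) <;> simp [diagonal_apply]
  | add p q hp hq => simp [map_add, hp, hq, fromBlocks_add]
  | monomial k a hk =>
    rw [pow_succ, ← mul_assoc]
    simp [map_mul _ (C a * X ^ k) X, hk, fromBlocks_multiply]

theorem Cyc.blocks {A : Matrix ι ι F} {B : Matrix κ κ F} (hA : Cyc A) (hB : Cyc B)
    (hco : IsCoprime A.charpoly B.charpoly) : Cyc (fromBlocks A 0 0 B) := by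
  obtain ⟨v, hv⟩ := hA
  obtain ⟨w, hw⟩ := hB
  refine ⟨Sum.elim v w, fun R hR => ?_⟩
  rw [charpoly_fromBlocks_zero₂₁]
  rw [aeval_fromBlocks, fromBlocks_mulVec] at hR
  refine hco.mul_dvd (hv R (funext fun i => ?_)) (hw R (funext fun i => ?_))
  · simpa using congrFun hR (Sum.inl i)
  · simpa using congrFun hR (Sum.inr i)

/-- The companion matrix with last column `c`. -/
def comp {n : ℕ} (c : Fin n → F) : Matrix (Fin n) (Fin n) F :=
  fun i j => if j.val + 1 = n then c i else if i.val = j.val + 1 then 1 else 0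

theorem Cyc.sim_comp {A : Matrix ι ι F} {n : ℕ} (hn : Fintype.card ι = n) (hA : Cyc A) :
    Sim A (comp fun i : Fin n => -A.charpoly.coeff i.val) := by
  obtain ⟨v, hv⟩ := hA
  let e : Fin n ≃ ι := (Fintype.equivFinOfCardEq hn).symm
  let M : Matrix ι (Fin n) F := Matrix.of fun i k => ((A ^ k.val) *ᵥ v) i
  have hdeg : A.charpoly.degree = n := by
    rw [Polynomial.degree_eq_natDegree (charpoly_monic A).ne_zero, charpoly_natDegree_eq_dim, hn]
  have hMu : IsUnit (M.submatrix e id) := by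
    rw [← Matrix.mulVec_injective_iff_isUnit]
    suffices h : Function.Injective (Matrix.mulVecLin (M.submatrix e id)) from h
    refine (injective_iff_map_eq_zero _).2 fun a ha => ?_
    set R : F[X] := ∑ k : Fin n, C (a k) * X ^ k.val with hRdef
    have hR : aeval A R *ᵥ v = 0 := by
      funext i
      have hi := congrFun ha (e.symm i)
      simp only [Matrix.mulVecLin_apply, Matrix.mulVec_eq_sum, Pi.zero_apply, Finset.sum_apply,
        Pi.smul_apply, Matrix.transpose_apply, Matrix.submatrix_apply, id_eq, M, Matrix.of_apply,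
        Equiv.apply_symm_apply, MulOpposite.smul_eq_mul_unop, MulOpposite.unop_op] at hi
      rw [hRdef, map_sum, Matrix.sum_mulVec, Finset.sum_apply, Pi.zero_apply, ← hi]
      refine Finset.sum_congr rfl fun k _ => ?_
      rw [map_mul, aeval_C, map_pow, aeval_X, ← Algebra.smul_def, Matrix.smul_mulVec,
        Pi.smul_apply, smul_eq_mul, mul_comm]
      rfl
    have hR0 : R = 0 :=
      Polynomial.eq_zero_of_dvd_of_degree_lt (hv R hR) (hdeg ▸ degree_sum_fin_lt a)
    funext k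
    have := congrArg (fun p => p.coeff k.val) hR0
    simpa [R, finsetSum_coeff, coeff_C_mul, coeff_X_pow, Fin.val_inj] using this
  obtain ⟨u, hu⟩ := hMu
  have hcol : A * M = M * comp fun i : Fin n => -A.charpoly.coeff i.val := by
    ext i k
    have hl : (A * M) i k = ((A ^ (k.val + 1)) *ᵥ v) i := by
      rw [pow_succ', ← mulVec_mulVec]
      rfl
    rw [hl, Matrix.mul_apply]
    by_cases hk : k.val + 1 = n
    · simp only [comp, hk, if_true]
      have h0 := congrArg (fun B => (B *ᵥ v) i) (aeval_self_charpoly A)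
      rw [aeval_eq_sum_range, charpoly_natDegree_eq_dim, hn, Finset.sum_range_succ,
        Matrix.add_mulVec, Matrix.sum_mulVec, Matrix.zero_mulVec] at h0
      have hc : A.charpoly.coeff n = 1 := by
        have := (charpoly_monic A).coeff_natDegree
        rwa [charpoly_natDegree_eq_dim, hn] at this
      simp only [Pi.add_apply, Finset.sum_apply, Pi.zero_apply, Matrix.smul_mulVec, Pi.smul_apply,
        hc, one_smul, smul_eq_mul, ← Fin.sum_univ_eq_sum_range (fun j => A.charpoly.coeff j *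
          (A ^ j *ᵥ v) i)] at h0
      rw [eq_neg_of_add_eq_zero_right h0, ← Finset.sum_neg_distrib]
      exact Finset.sum_congr rfl fun j _ => by simp only [M, Matrix.of_apply]; ring
    · have hk' : k.val + 1 < n := by omega
      rw [Finset.sum_eq_single ⟨k.val + 1, hk'⟩]
      · simp [comp, hk, M]
      · intro j _ hj
        have : j.val ≠ k.val + 1 := fun h => hj (Fin.ext h)
        simp [comp, hk, this]
      · simp
  have hMe : M = (u : Matrix (Fin n) (Fin n) F).submatrix e.symm id := by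
    rw [hu]; ext i k; simp
  refine ⟨M, ((u⁻¹ : (Matrix (Fin n) (Fin n) F)ˣ) : Matrix (Fin n) (Fin n) F).submatrix id e.symm,
    ?_, ?_, hcol⟩
  · rw [hMe, show (id : Fin n → Fin n) = Equiv.refl (Fin n) from rfl, submatrix_mul_equiv,
      Units.mul_inv, submatrix_one_equiv]
  · rw [hMe, submatrix_mul_equiv, Units.inv_mul, submatrix_id_id]

theorem Cyc.sim {A : Matrix ι ι F} {B : Matrix κ κ F} (hA : Cyc A) (hB : Cyc B)
    (h : A.charpoly = B.charpoly) : Sim A B := by
  have hc : Fintype.card ι = Fintype.card κ := by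
    rw [← A.charpoly_natDegree_eq_dim, h, B.charpoly_natDegree_eq_dim]
  have h1 := hA.sim_comp (n := Fintype.card κ) hc
  rw [h] at h1
  exact h1.trans (hB.sim_comp rfl).symm

/-- Unreduced Hessenberg matrices. -/
def Hess {n : ℕ} (H : Matrix (Fin n) (Fin n) F) : Prop :=
  (∀ i j : Fin n, j.val + 1 < i.val → H i j = 0) ∧ ∀ i j : Fin n, i.val = j.val + 1 → H i j ≠ 0

theorem Hess.pow_apply {n : ℕ} {H : Matrix (Fin n) (Fin n) F} (hH : Hess H) (hn : 0 < n) (k : ℕ) :
    (∀ i : Fin n, k < i.val → ((H ^ k) *ᵥ Pi.single ⟨0, hn⟩ 1) i = 0) ∧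
      ∀ i : Fin n, i.val = k → ((H ^ k) *ᵥ Pi.single ⟨0, hn⟩ 1) i ≠ 0 := by
  obtain ⟨h0, h1⟩ := hH
  induction k with
  | zero =>
    refine ⟨fun i hi => ?_, fun i hi => ?_⟩
    · rw [pow_zero, one_mulVec, Pi.single_eq_of_ne (fun h => by simp [h] at hi)]
    · rw [pow_zero, one_mulVec, show i = ⟨0, hn⟩ from Fin.ext hi, Pi.single_eq_same]
      exact one_ne_zero
  | succ k ih =>
    set v : Fin n → F := Pi.single ⟨0, hn⟩ 1
    have hs : ∀ i : Fin n, ((H ^ (k + 1)) *ᵥ v) i = ∑ j, H i j * ((H ^ k) *ᵥ v) j := fun i => by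
      rw [pow_succ', ← mulVec_mulVec]; rfl
    refine ⟨fun i hi => ?_, fun i hi => ?_⟩
    · rw [hs, Finset.sum_eq_zero fun j _ => ?_]
      by_cases hj : k < j.val
      · rw [ih.1 j hj, mul_zero]
      · rw [h0 i j (by omega), zero_mul]
    · rw [hs, Finset.sum_eq_single ⟨k, by omega⟩]
      · exact mul_ne_zero (h1 _ _ (by simp only; omega)) (ih.2 _ rfl)
      · intro j _ hj
        have : j.val ≠ k := fun h => hj (Fin.ext h)
        by_cases hj' : k < j.val
        · rw [ih.1 j hj', mul_zero]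
        · rw [h0 i j (by omega), zero_mul]
      · simp

theorem Hess.eq_zero {n : ℕ} {H : Matrix (Fin n) (Fin n) F} (hH : Hess H) (hn : 0 < n) (R : F[X])
    (hd : R.degree < (n : WithBot ℕ)) (hR : aeval H R *ᵥ Pi.single ⟨0, hn⟩ 1 = 0) : R = 0 := by
  by_contra hR0
  rw [Polynomial.degree_eq_natDegree hR0, Nat.cast_lt] at hd
  have h := congrFun hR ⟨R.natDegree, hd⟩
  rw [aeval_eq_sum_range, Matrix.sum_mulVec, Finset.sum_apply, Pi.zero_apply,
    Finset.sum_eq_single R.natDegree] at h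
  · rw [Matrix.smul_mulVec, Pi.smul_apply, smul_eq_mul] at h
    exact mul_ne_zero (leadingCoeff_ne_zero.2 hR0)
      ((hH.pow_apply hn R.natDegree).2 ⟨R.natDegree, hd⟩ rfl) h
  · intro k hk hne
    rw [Finset.mem_range] at hk
    rw [Matrix.smul_mulVec, Pi.smul_apply, (hH.pow_apply hn k).1 _ (by simp only; omega), smul_zero]
  · simp

theorem Hess.cyc {n : ℕ} {H : Matrix (Fin n) (Fin n) F} (hH : Hess H) : Cyc H := by
  rcases Nat.eq_zero_or_pos n with rfl | hn
  · exact cyc_of_small 0 fun R hd _ =>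
      degree_eq_bot.1 (Nat.WithBot.lt_zero_iff.1 (by simpa using hd))
  · exact cyc_of_small _ fun R hd hR => hH.eq_zero hn R (by simpa using hd) hR

theorem Hess.charpoly_eq {n : ℕ} {H : Matrix (Fin n) (Fin n) F} (hH : Hess H) (hn : 0 < n)
    {P : F[X]} (hP : P.Monic) (hd : P.natDegree = n)
    (h : aeval H P *ᵥ Pi.single ⟨0, hn⟩ 1 = 0) : H.charpoly = P := by
  refine sub_eq_zero.1 (hH.eq_zero hn _ ?_ ?_)
  · have hm := charpoly_monic H
    refine (degree_sub_lt (p := H.charpoly) (q := P) ?_ hm.ne_zero ?_).trans_eq ?_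
    · rw [degree_eq_natDegree hm.ne_zero, degree_eq_natDegree hP.ne_zero,
        charpoly_natDegree_eq_dim, hd, Fintype.card_fin]
    · rw [hm.leadingCoeff, hP.leadingCoeff]
    · rw [degree_eq_natDegree hm.ne_zero, charpoly_natDegree_eq_dim, Fintype.card_fin]
  · rw [map_sub, aeval_self_charpoly, zero_sub, neg_mulVec, h, neg_zero]

theorem sylvester (A : Matrix ι ι F) (B : Matrix κ κ F) (p : F[X]) (hp : aeval A p = 0)
    (hco : IsCoprime p B.charpoly) (Z : Matrix ι κ F) : ∃ X : Matrix ι κ F, A * X - X * B = Z := by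
  let L : Matrix ι κ F →ₗ[F] Matrix ι κ F :=
    { toFun := fun X => A * X - X * B
      map_add' := fun X Y => by simp [Matrix.mul_add, Matrix.add_mul]; abel
      map_smul' := fun t X => by simp [smul_sub] }
  have hinj : Function.Injective L := by
    refine (injective_iff_map_eq_zero _).2 fun X hX => ?_
    have h : A * X = X * B := sub_eq_zero.1 hX
    obtain ⟨u, w, huw⟩ := hco
    have h1 : aeval A w * aeval A B.charpoly = 1 := by
      have := congrArg (aeval A) huw
      rwa [map_add, map_mul, map_mul, hp, mul_zero, zero_add, map_one] at this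
    have h2 := Sim.aeval_intertwine h B.charpoly
    rw [aeval_self_charpoly, Matrix.mul_zero] at h2
    rw [← Matrix.one_mul X, ← h1, Matrix.mul_assoc, h2, Matrix.mul_zero]
  exact LinearMap.surjective_of_injective hinj Z

theorem sim_upper (A : Matrix ι ι F) (B : Matrix κ κ F) (hco : IsCoprime A.charpoly B.charpoly)
    (Z : Matrix ι κ F) : Sim (fromBlocks A Z 0 B) (fromBlocks A 0 0 B) := by
  obtain ⟨X, hX⟩ := sylvester A B _ (aeval_self_charpoly A) hco (-Z)
  refine ⟨fromBlocks 1 X 0 1, fromBlocks 1 (-X) 0 1, by simp [fromBlocks_multiply, fromBlocks_one],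
    by simp [fromBlocks_multiply, fromBlocks_one], ?_⟩
  have : A * X + Z = X * B := by
    have h := congrArg (fun W => W + Z + X * B) hX
    simp only [neg_add_cancel, zero_add] at h
    rw [← h]; abel
  simp [fromBlocks_multiply, this]

theorem sim_lower (A : Matrix ι ι F) (B : Matrix κ κ F) (hco : IsCoprime A.charpoly B.charpoly)
    (Z : Matrix κ ι F) : Sim (fromBlocks A 0 Z B) (fromBlocks A 0 0 B) := by
  refine ((Sim.submatrix _ (Equiv.sumComm κ ι)).trans (Sim.of_eq ?_)).trans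
    ((sim_upper B A hco.symm Z).trans (Sim.comm B A))
  ext (i | i) (j | j) <;> rfl

/-- Extension of commutators. -/
theorem Com.extend {g₁ : Matrix ι ι F} {g₂ : Matrix κ κ F} (Z : Matrix ι κ F)
    {a₁ b₁ : Matrix ι ι F} {a₂ b₂ : Matrix κ κ F} (h₁ : a₁ * b₁ = g₁ * b₁ * a₁)
    (h₂ : a₂ * b₂ = g₂ * b₂ * a₂)
    (p : F[X]) (hp : aeval (g₁ * b₁) p = 0) (hco : IsCoprime p b₂.charpoly) :
    Com (fromBlocks g₁ Z 0 g₂) (a₁.det * a₂.det) (b₁.det * b₂.det) := by
  obtain ⟨X, hX⟩ := sylvester (g₁ * b₁) b₂ p hp hco (-(Z * b₂ * a₂))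
  refine ⟨fromBlocks a₁ X 0 a₂, fromBlocks b₁ 0 0 b₂, det_fromBlocks_zero₂₁ _ _ _,
    det_fromBlocks_zero₂₁ _ _ _, ?_⟩
  have : X * b₂ = g₁ * b₁ * X + Z * b₂ * a₂ := by
    rw [← sub_eq_iff_eq_add', ← neg_sub, hX, neg_neg]
  simp [fromBlocks_multiply, h₁, h₂, this, Matrix.mul_assoc]

end Cfsg.Agent.H60.Ore
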