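/-
Multiplying a companion matrix by a triangular matrix with a final block of size two, so that the
product is cyclic with a prescribed characteristic polynomial.
-/
import Cfsg.Agent.H60.Ore.Sim

set_option autoImplicit false
set_option linter.unusedSectionVars false

namespace Cfsg.Agent.H60.Ore

open Matrix Polynomial

variable {F : Type*} [Field F]

theorem comp_mul_apply {n : ℕ} (c : Fin (n + 1) → F) {κ : Type} (M : Matrix (Fin (n + 1)) κ F)
    (i : Fin (n + 1)) (j : κ) :
    (comp c * M) i j = c i * M (Fin.last n) j +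
      if 0 < i.val then M ⟨i.val - 1, by omega⟩ j else 0 := by
  rw [Matrix.mul_apply]
  have hk : ∀ k : Fin (n + 1), comp c i k * M k j =
      (if k = Fin.last n then c i * M (Fin.last n) j else 0) +
      (if k = (⟨i.val - 1, by omega⟩ : Fin (n + 1)) ∧ 0 < i.val then
        M ⟨i.val - 1, by omega⟩ j else 0) := by
    intro k
    by_cases h1 : k = Fin.last n
    · subst h1
      rw [if_pos rfl, if_neg, add_zero, comp, if_pos (by simp)]
      rintro ⟨h, h'⟩
      have := congrArg Fin.val h
      simp at this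
      omega
    · have h1' : ¬ k.val + 1 = n + 1 := fun h => h1 (Fin.ext (by simp; omega))
      rw [if_neg h1, zero_add, comp, if_neg h1']
      by_cases h2 : i.val = k.val + 1
      · have hk' : k = (⟨i.val - 1, by omega⟩ : Fin (n + 1)) := Fin.ext (by simp only; omega)
        rw [if_pos h2, one_mul, if_pos ⟨hk', by omega⟩, ← hk']
      · rw [if_neg h2, zero_mul, if_neg]
        rintro ⟨h, h'⟩
        exact h2 (by rw [h]; simp only; omega)
  rw [Finset.sum_congr rfl fun k _ => hk k, Finset.sum_add_distrib, Finset.sum_ite_eq',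
    if_pos (Finset.mem_univ _)]
  congr 1
  by_cases hi : 0 < i.val <;> simp [hi]

theorem hess_comp {n : ℕ} (c : Fin n → F) : Hess (comp c) :=
  ⟨fun i j h => by rw [comp, if_neg (by omega), if_neg (by omega)],
    fun i j h => by rw [comp, if_neg (by omega), if_pos h]; exact one_ne_zero⟩

/-- The companion matrix of a monic polynomial. -/
def compOf (n : ℕ) (f : F[X]) : Matrix (Fin n) (Fin n) F := comp fun i => -f.coeff i.val

theorem charpoly_compOf {n : ℕ} {f : F[X]} (hf : f.Monic) (hd : f.natDegree = n) :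
    (compOf n f).charpoly = f := by
  rcases Nat.eq_zero_or_pos n with rfl | hn
  · rw [eq_one_of_monic_natDegree_zero hf hd]
    exact eq_one_of_monic_natDegree_zero (charpoly_monic _) (by simp)
  refine (hess_comp _).charpoly_eq hn hf hd ?_
  show aeval (compOf n f) f *ᵥ _ = 0
  set v : Fin n → F := Pi.single ⟨0, hn⟩ 1 with hv
  have key : ∀ k (hk : k < n), (compOf n f ^ k) *ᵥ v = Pi.single ⟨k, hk⟩ 1 := by
    intro k
    induction k with
    | zero => intro hk; rw [pow_zero, one_mulVec]
    | succ k ih =>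
      intro hk
      rw [pow_succ', ← mulVec_mulVec, ih (by omega), mulVec_single_one]
      funext i
      rw [Matrix.col_apply, compOf, comp, if_neg (by simp only; omega), Pi.single_apply]
      exact if_congr (by simp [Fin.ext_iff]) rfl rfl
  rw [aeval_eq_sum_range, hd, Finset.sum_range_succ, Matrix.add_mulVec, Matrix.sum_mulVec]
  have htop : (compOf n f ^ n) *ᵥ v = fun i => -f.coeff i.val := by
    obtain ⟨m, rfl⟩ : ∃ m, n = m + 1 := ⟨n - 1, by omega⟩
    rw [pow_succ', ← mulVec_mulVec, key m (by omega), mulVec_single_one]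
    funext i
    rw [Matrix.col_apply, compOf, comp, if_pos rfl]
  have hlc : f.coeff n = 1 := hd ▸ hf.coeff_natDegree
  rw [Matrix.smul_mulVec, htop, hlc, one_smul]
  funext i
  rw [Pi.add_apply, Finset.sum_apply, Pi.zero_apply, Finset.sum_eq_single i.val]
  · rw [Matrix.smul_mulVec, key i.val i.isLt, Pi.smul_apply, Pi.single_eq_same, smul_eq_mul,
      mul_one, add_neg_cancel]
  · intro k hk hne
    rw [Finset.mem_range] at hk
    rw [Matrix.smul_mulVec, key k hk, Pi.smul_apply,
      Pi.single_eq_of_ne (fun h => hne (by rw [h])), smul_zero]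
  · intro h; exact absurd (Finset.mem_range.2 i.isLt) h

theorem cyc_compOf (n : ℕ) (f : F[X]) : Cyc (compOf n f) := (hess_comp _).cyc

theorem det_compOf {n : ℕ} {f : F[X]} (hf : f.Monic) (hd : f.natDegree = n) :
    (compOf n f).det = (-1) ^ n * f.coeff 0 := by
  rw [det_eq_sign_charpoly_coeff, charpoly_compOf hf hd, Fintype.card_fin]

/-- The triangular multiplier. -/
def tailMat {m : ℕ} (U₀ : Matrix (Fin m) (Fin m) F) (z p : F) (w : Fin (m + 2) → F) :
    Matrix (Fin (m + 2)) (Fin (m + 2)) F :=
  fun i j =>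
    if hj : j.val < m then (if hi : i.val < m then U₀ ⟨i.val, hi⟩ ⟨j.val, hj⟩ else 0)
    else if j.val = m then (if i.val + 1 = m then z else if i.val = m then p
      else if i.val = m + 1 then 1 else 0)
    else w i

theorem tail {m : ℕ} (hm : 0 < m) {f : F[X]} (hf : f.Monic) (hfd : f.natDegree = m + 2)
    (hf0 : f.coeff 0 ≠ 0) (U₀ : Matrix (Fin m) (Fin m) F) (hup : U₀.IsUpperTriangular)
    (hdg : ∀ i, U₀ i i ≠ 0) (τ δ : F) {P : F[X]} (hP : P.Monic) (hPd : P.natDegree = m + 2)
    (hP0 : P.coeff 0 = f.coeff 0 * U₀.det * δ)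
    (hco : IsCoprime U₀.charpoly (X ^ 2 - C τ * X + C δ)) :
    ∃ (U : Matrix (Fin (m + 2)) (Fin (m + 2)) F) (B : Matrix (Fin 2) (Fin 2) F),
      B.trace = τ ∧ B.det = δ ∧ B 1 0 = 1 ∧ Sim U (fromBlocks U₀ 0 0 B) ∧
      Cyc (compOf (m + 2) f * U) ∧ (compOf (m + 2) f * U).charpoly = P := by
  set c : Fin (m + 2) → F := fun i => -f.coeff i.val with hc
  set Cm := compOf (m + 2) f with hCm
  set p : F := 1 - c (Fin.last (m + 1)) with hp
  set S : F := ∑ i : Fin m, if h : 0 < i.val then U₀ ⟨i.val - 1, by omega⟩ i else 0 with hS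
  set z : F := -P.coeff (m + 1) - S - c ⟨m, by omega⟩ + δ - (τ - p) with hz
  have hCU : ∀ w i j, (Cm * tailMat U₀ z p w) i j = c i * tailMat U₀ z p w (Fin.last (m + 1)) j +
      if 0 < i.val then tailMat U₀ z p w ⟨i.val - 1, by omega⟩ j else 0 := fun w i j =>
    comp_mul_apply c _ i j
  have hH : ∀ w, Hess (Cm * tailMat U₀ z p w) := by
    refine fun w => ⟨fun i j h => ?_, fun i j h => ?_⟩
    · have hj : j.val < m := by omega
      rw [hCU, show tailMat U₀ z p w (Fin.last (m + 1)) j = 0 by simp [tailMat, hj], mul_zero,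
        zero_add, if_pos (by omega), tailMat, dif_pos hj]
      by_cases hi : i.val - 1 < m
      · rw [dif_pos hi]
        refine hup ?_
        simp only [id_eq, Fin.mk_lt_mk]
        omega
      · rw [dif_neg hi]
    · rw [hCU, if_pos (by omega)]
      by_cases hj : j.val < m
      · rw [show tailMat U₀ z p w (Fin.last (m + 1)) j = 0 by simp [tailMat, hj], mul_zero, zero_add,
          tailMat, dif_pos hj, dif_pos (show i.val - 1 < m by omega)]
        convert hdg ⟨j.val, hj⟩ using 3
        simp only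
        omega
      · have hjm : j.val = m := by omega
        have hi : i = Fin.last (m + 1) := Fin.ext (by simp; omega)
        subst hi
        rw [show tailMat U₀ z p w (Fin.last (m + 1)) j = 1 by
            simp [tailMat, hjm, show ¬ m + 1 + 1 = m by omega], mul_one,
          show tailMat U₀ z p w ⟨(Fin.last (m + 1)).val - 1, _⟩ j = p by simp [tailMat, hjm], hp,
          add_sub_cancel]
        exact one_ne_zero
  -- choice of the last column
  set e0 : Fin (m + 2) → F := Pi.single ⟨0, by omega⟩ 1 with he0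
  set H0 := Cm * tailMat U₀ z p 0 with hH0
  set k0 := ((H0 ^ (m + 1)) *ᵥ e0) (Fin.last (m + 1)) with hk0
  have hk0ne : k0 ≠ 0 := ((hH 0).pow_apply (by omega) (m + 1)).2 _ (by simp)
  have hCu : IsUnit Cm.det := by
    rw [hCm, det_compOf hf hfd, isUnit_iff_ne_zero]
    exact mul_ne_zero (pow_ne_zero _ (by simp)) hf0
  set w : Fin (m + 2) → F := Cm⁻¹ *ᵥ (-(k0⁻¹ • (aeval H0 P *ᵥ e0))) with hw
  set U := tailMat U₀ z p w with hU
  set H := Cm * U with hHdef
  have hdiff : ∀ v, H *ᵥ v = H0 *ᵥ v + v (Fin.last (m + 1)) • (Cm *ᵥ w) := by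
    intro v
    have hUv : U *ᵥ v = tailMat U₀ z p 0 *ᵥ v + v (Fin.last (m + 1)) • w := by
      funext i
      simp only [Matrix.mulVec, dotProduct, Pi.add_apply, Pi.smul_apply, smul_eq_mul]
      rw [← Finset.add_sum_erase _ _ (Finset.mem_univ (Fin.last (m + 1))),
        ← Finset.add_sum_erase _ _ (Finset.mem_univ (Fin.last (m + 1))),
        show tailMat U₀ z p 0 i (Fin.last (m + 1)) = 0 by simp [tailMat],
        show U i (Fin.last (m + 1)) = w i by simp [U, tailMat], zero_mul, zero_add,
        add_comm (w i * _), mul_comm (w i)]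
      congr 1
      refine Finset.sum_congr rfl fun j hj => ?_
      have hj' : j.val ≠ m + 1 := fun h => by
        simp at hj
        exact hj (Fin.ext (by simp [h]))
      have : j.val < m ∨ j.val = m := by omega
      rcases this with h | h <;> simp [U, tailMat, h]
    rw [hHdef, hH0, ← mulVec_mulVec, hUv, mulVec_add, mulVec_smul, mulVec_mulVec]
  have hpow : ∀ k, k ≤ m + 1 → (H ^ k) *ᵥ e0 = (H0 ^ k) *ᵥ e0 := by
    intro k
    induction k with
    | zero => intro; simp
    | succ k ih =>
      intro hk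
      rw [pow_succ', ← mulVec_mulVec, ih (by omega), hdiff,
        ((hH 0).pow_apply (by omega) k).1 _ (by simp; omega), zero_smul, add_zero, mulVec_mulVec,
        ← pow_succ']
  have htop : (H ^ (m + 2)) *ᵥ e0 = (H0 ^ (m + 2)) *ᵥ e0 + k0 • (Cm *ᵥ w) := by
    rw [pow_succ', ← mulVec_mulVec, hpow (m + 1) le_rfl, hdiff, mulVec_mulVec, ← pow_succ']
  have hann : aeval H P *ᵥ e0 = 0 := by
    have hk : k0 • (Cm *ᵥ w) = -(aeval H0 P *ᵥ e0) := by
      rw [hw, mulVec_mulVec, Matrix.mul_nonsing_inv _ hCu, one_mulVec, smul_neg, smul_inv_smul₀ hk0ne]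
    have hlc : P.coeff (m + 2) = 1 := hPd ▸ hP.coeff_natDegree
    rw [aeval_eq_sum_range (x := H0), hPd, Finset.sum_range_succ, hlc, one_smul, Matrix.add_mulVec,
      Matrix.sum_mulVec] at hk
    rw [aeval_eq_sum_range, hPd, Finset.sum_range_succ, hlc, one_smul,
      Matrix.add_mulVec, Matrix.sum_mulVec, htop, hk]
    rw [Finset.sum_congr rfl fun k hk' => show (P.coeff k • H ^ k) *ᵥ e0 = (P.coeff k • H0 ^ k) *ᵥ e0 by
      rw [Matrix.smul_mulVec, Matrix.smul_mulVec, hpow k (by rw [Finset.mem_range] at hk'; omega)]]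
    abel
  have hchi : H.charpoly = P := (hH w).charpoly_eq (by omega) hP hPd hann
  -- the block structure of the multiplier
  let B : Matrix (Fin 2) (Fin 2) F := !![p, w ⟨m, by omega⟩; 1, w (Fin.last (m + 1))]
  let Z : Matrix (Fin m) (Fin 2) F := fun i k =>
    U (Fin.castAdd 2 i) (Fin.natAdd m k)
  have hblocks : U.submatrix finSumFinEquiv finSumFinEquiv = fromBlocks U₀ Z 0 B := by
    ext (i | i) (j | j)
    · simp [U, tailMat]
    · simp only [Matrix.submatrix_apply, finSumFinEquiv_apply_left, finSumFinEquiv_apply_right,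
        fromBlocks_apply₁₂]
      rfl
    · simp [U, tailMat]
    · fin_cases i <;> fin_cases j <;>
        simp [U, tailMat, B, Fin.last, Fin.natAdd, show ¬ m + 1 + 1 = m by omega]
  have hdet0 : U₀.det ≠ 0 := by
    rw [det_of_isUpperTriangular hup]
    exact Finset.prod_ne_zero_iff.2 fun i _ => hdg i
  have hdetB : B.det = δ := by
    have h1 : U.det = U₀.det * B.det := by
      rw [← Matrix.det_submatrix_equiv_self finSumFinEquiv U, hblocks, det_fromBlocks_zero₂₁]
    have h2 := det_eq_sign_charpoly_coeff H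
    rw [hchi, Fintype.card_fin, hP0, hHdef, det_mul, hCm, det_compOf hf hfd, h1] at h2
    refine mul_left_cancel₀ (mul_ne_zero (mul_ne_zero (pow_ne_zero (m + 2)
      (neg_ne_zero.2 (one_ne_zero (α := F)))) hf0) hdet0) ?_
    linear_combination h2
  have hw1 : w (Fin.last (m + 1)) = τ - p := by
    have h1 := trace_eq_neg_charpoly_coeff H
    rw [hchi, Fintype.card_fin, show m + 2 - 1 = m + 1 from rfl, Matrix.trace, hHdef,
      Fin.sum_univ_castSucc, Fin.sum_univ_castSucc] at h1
    simp only [Matrix.diag_apply, hU] at h1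
    rw [hCU, hCU] at h1
    have hSi : ∀ i : Fin m, (Cm * tailMat U₀ z p w) i.castSucc.castSucc i.castSucc.castSucc =
        if h : 0 < i.val then U₀ ⟨i.val - 1, by omega⟩ i else 0 := by
      intro i
      rw [hCU]
      simp [tailMat, i.isLt]
      split_ifs <;> first | rfl | omega
    rw [Finset.sum_congr rfl fun i _ => hSi i, ← hS] at h1
    simp only [Fin.val_castSucc, Fin.val_last] at h1
    simp [tailMat, hm, show ¬ m + 1 + 1 = m by omega, show m - 1 + 1 = m by omega] at h1
    rw [show (Fin.last m).castSucc = (⟨m, by omega⟩ : Fin (m + 2)) from rfl] at h1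
    have hd : p * w (Fin.last (m + 1)) - w ⟨m, by omega⟩ = δ := by
      rw [← hdetB, Matrix.det_fin_two]; simp [B]
    rw [hz, hp] at h1
    rw [hp] at hd ⊢
    linear_combination h1 + hd
  refine ⟨U, B, ?_, hdetB, by simp [B], ?_, (hH w).cyc, hchi⟩
  · rw [Matrix.trace_fin_two]
    simp [B, hw1]
  · refine (Sim.submatrix U finSumFinEquiv).trans ((Sim.of_eq hblocks).trans (sim_upper U₀ B ?_ Z))
    rw [Matrix.charpoly_fin_two B, hdetB, show B.trace = τ by rw [Matrix.trace_fin_two]; simp [B, hw1]]
    exact hco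

end Cfsg.Agent.H60.Ore
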