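/-
Building blocks for commutator data over small fields.
-/
import Cfsg.Agent.H60.Ore.Tail

set_option autoImplicit false
set_option linter.unusedSectionVars false

namespace Cfsg.Agent.H60.Ore

open Matrix Polynomial

variable {F : Type*} [Field F]
variable {ι κ μ ν : Type} [Fintype ι] [DecidableEq ι] [Fintype κ] [DecidableEq κ]
  [Fintype μ] [DecidableEq μ] [Fintype ν] [DecidableEq ν]

/-- A Jordan block. -/
def Jm (r : ℕ) (u : F) : Matrix (Fin r) (Fin r) F :=
  fun i j => if i = j then u else if j.val = i.val + 1 then 1 else 0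

theorem Jm_upper (r : ℕ) (u : F) : (Jm r u).IsUpperTriangular := fun i j h => by
  have h' : j.val < i.val := h
  rw [Jm, if_neg (by rintro rfl; omega), if_neg (by omega)]

theorem Jm_diag (r : ℕ) (u : F) (i : Fin r) : Jm r u i i = u := if_pos rfl

theorem charpoly_Jm (r : ℕ) (u : F) : (Jm r u).charpoly = (X - C u) ^ r := by
  rw [charpoly_of_isUpperTriangular _ (Jm_upper r u)]
  simp [Jm_diag]

theorem det_Jm (r : ℕ) (u : F) : (Jm r u).det = u ^ r := by
  rw [det_of_isUpperTriangular (Jm_upper r u)]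
  simp [Jm_diag]

theorem cyc_Jm (r : ℕ) (u : F) : Cyc (Jm r u) := by
  refine Cyc.of_sim (Sim.submatrix _ Fin.revPerm) (Hess.cyc ⟨fun i j h => ?_, fun i j h => ?_⟩)
  · rw [Matrix.submatrix_apply, Jm, if_neg (fun e => by
      have := Fin.revPerm.injective e; subst this; omega), if_neg (by
      simp only [Fin.revPerm_apply, Fin.val_rev]; omega)]
  · rw [Matrix.submatrix_apply, Jm, if_neg (fun e => by
      have := Fin.revPerm.injective e; subst this; omega), if_pos (by
      simp only [Fin.revPerm_apply, Fin.val_rev]; omega)]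
    exact one_ne_zero

/-- Direct sum, indexed by `Fin (a + b)`. -/
def bsum {a b : ℕ} (A : Matrix (Fin a) (Fin a) F) (B : Matrix (Fin b) (Fin b) F) :
    Matrix (Fin (a + b)) (Fin (a + b)) F :=
  (fromBlocks A 0 0 B).submatrix finSumFinEquiv.symm finSumFinEquiv.symm

theorem sim_bsum {a b : ℕ} (A : Matrix (Fin a) (Fin a) F) (B : Matrix (Fin b) (Fin b) F) :
    Sim (bsum A B) (fromBlocks A 0 0 B) := (Sim.submatrix _ finSumFinEquiv.symm).symm

theorem bsum_upper {a b : ℕ} {A : Matrix (Fin a) (Fin a) F} {B : Matrix (Fin b) (Fin b) F}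
    (hA : A.IsUpperTriangular) (hB : B.IsUpperTriangular) : (bsum A B).IsUpperTriangular := by
  intro i j h
  obtain ⟨i, rfl⟩ := finSumFinEquiv.surjective i
  obtain ⟨j, rfl⟩ := finSumFinEquiv.surjective j
  rw [bsum, Matrix.submatrix_apply, Equiv.symm_apply_apply, Equiv.symm_apply_apply]
  have h' : (finSumFinEquiv j).val < (finSumFinEquiv i).val := h
  rcases i with i | i <;> rcases j with j | j <;>
    simp only [finSumFinEquiv_apply_left, finSumFinEquiv_apply_right, Fin.val_castAdd,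
      Fin.val_natAdd] at h'
  · rw [fromBlocks_apply₁₁]; exact hA (Fin.lt_def.2 h')
  · omega
  · rfl
  · rw [fromBlocks_apply₂₂]; exact hB (show j.val < i.val by omega)

theorem bsum_diag {a b : ℕ} {A : Matrix (Fin a) (Fin a) F} {B : Matrix (Fin b) (Fin b) F}
    (hA : ∀ i, A i i ≠ 0) (hB : ∀ i, B i i ≠ 0) (i : Fin (a + b)) : bsum A B i i ≠ 0 := by
  obtain ⟨i, rfl⟩ := finSumFinEquiv.surjective i
  rw [bsum, Matrix.submatrix_apply, Equiv.symm_apply_apply]
  rcases i with i | i
  · exact hA i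
  · exact hB i

theorem charpoly_sum (A : Matrix ι ι F) (B : Matrix κ κ F) :
    (fromBlocks A 0 0 B).charpoly = A.charpoly * B.charpoly :=
  charpoly_fromBlocks_zero₂₁ A 0 B

theorem det_sum (A : Matrix ι ι F) (B : Matrix κ κ F) :
    (fromBlocks A 0 0 B).det = A.det * B.det := det_fromBlocks_zero₂₁ _ _ _

theorem charpoly_bsum {a b : ℕ} (A : Matrix (Fin a) (Fin a) F) (B : Matrix (Fin b) (Fin b) F) :
    (bsum A B).charpoly = A.charpoly * B.charpoly := by
  rw [(sim_bsum A B).charpoly_eq, charpoly_sum]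

theorem det_bsum {a b : ℕ} (A : Matrix (Fin a) (Fin a) F) (B : Matrix (Fin b) (Fin b) F) :
    (bsum A B).det = A.det * B.det := by
  rw [(sim_bsum A B).det_eq, det_sum]

theorem coprime_lin (u : F) {Q : F[X]} (h : Q.eval u ≠ 0) (r : ℕ) :
    IsCoprime ((X - C u) ^ r) Q :=
  ((irreducible_X_sub_C u).coprime_iff_not_dvd.2 fun hd => h (dvd_iff_isRoot.1 hd)).pow_left

theorem coprime_lin_lin {u w : F} (h : u ≠ w) (r s : ℕ) :
    IsCoprime ((X - C u) ^ r) ((X - C w) ^ s) :=
  coprime_lin u (by simp [sub_ne_zero.2 h]) r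

/-- The quadratic `X² - τ X + δ`. -/
noncomputable def quad (τ δ : F) : F[X] := X ^ 2 - C τ * X + C δ

theorem quad_monic (τ δ : F) : (quad τ δ).Monic := by unfold quad; monicity!

theorem quad_natDegree (τ δ : F) : (quad τ δ).natDegree = 2 := by unfold quad; compute_degree!

/-- The standard matrix with characteristic polynomial `quad τ δ`. -/
noncomputable def qmat (τ δ : F) : Matrix (Fin 2) (Fin 2) F := compOf 2 (quad τ δ)

theorem charpoly_qmat (τ δ : F) : (qmat τ δ).charpoly = quad τ δ :=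
  charpoly_compOf (quad_monic τ δ) (quad_natDegree τ δ)

theorem det_qmat (τ δ : F) : (qmat τ δ).det = δ := by
  rw [qmat, det_compOf (quad_monic τ δ) (quad_natDegree τ δ)]
  simp [quad]

/-- The multiplier of a companion matrix, with prescribed cyclic product. -/
theorem exists_mult {m : ℕ} (hm : 0 < m) {f : F[X]} (hf : f.Monic) (hfd : f.natDegree = m + 2)
    (hf0 : f.coeff 0 ≠ 0) (U₀ : Matrix (Fin m) (Fin m) F) (hup : U₀.IsUpperTriangular)
    (hdg : ∀ i, U₀ i i ≠ 0) (τ δ : F) (hco : IsCoprime U₀.charpoly (quad τ δ))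
    (T : Matrix ι ι F) (hT : Cyc T) (hcard : Fintype.card ι = m + 2)
    (hdet : T.det = (compOf (m + 2) f).det * U₀.det * δ) :
    ∃ U : Matrix (Fin (m + 2)) (Fin (m + 2)) F,
      Sim (compOf (m + 2) f * U) T ∧ Sim U (fromBlocks U₀ 0 0 (qmat τ δ)) := by
  have hP0 : T.charpoly.coeff 0 = f.coeff 0 * U₀.det * δ := by
    rw [det_eq_sign_charpoly_coeff, hcard, det_compOf hf hfd, mul_assoc, mul_assoc] at hdet
    exact (mul_left_cancel₀ (pow_ne_zero _ (neg_ne_zero.2 one_ne_zero)) hdet).trans (mul_assoc _ _ _).symm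
  obtain ⟨U, B, hτ, hδ, h10, hU, hH, hchi⟩ := tail hm hf hfd hf0 U₀ hup hdg τ δ (charpoly_monic T)
    (by rw [charpoly_natDegree_eq_dim, hcard]) hP0 hco
  refine ⟨U, hH.sim hT hchi, hU.trans ((Sim.refl U₀).blocks (Cyc.sim ?_ (cyc_compOf _ _) ?_))⟩
  · refine Hess.cyc ⟨fun i j h => absurd h (by omega), fun i j h => ?_⟩
    rw [show i = 1 from Fin.ext (by simp; omega), show j = 0 from Fin.ext (by simp; omega), h10]
    exact one_ne_zero
  · rw [Matrix.charpoly_fin_two, hτ, hδ]
    exact (charpoly_qmat τ δ).symm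

/-- A block of degree at least three, with the multiplier. -/
theorem exists_positive {m : ℕ} (hm : 0 < m) {f : F[X]} (hf : f.Monic) (hfd : f.natDegree = m + 2)
    (hdet : (compOf (m + 2) f).det = 1) (τ : F) (hQ : (quad τ 1).eval 1 ≠ 0)
    (hC : CFull (qmat τ (1 : F))) (d : F) (hd : d ≠ 0) :
    ∃ a b : Matrix (Fin (m + 2)) (Fin (m + 2)) F, a.det = d ∧ b.det = 1 ∧
      a * b = compOf (m + 2) f * b * a ∧ b.charpoly = (X - C 1) ^ m * quad τ 1 := by
  have hf0 : f.coeff 0 ≠ 0 := fun h => by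
    rw [det_compOf hf hfd, h, mul_zero] at hdet
    exact zero_ne_one hdet
  have hco : IsCoprime (Jm m (1 : F)).charpoly (quad τ 1) := by
    rw [charpoly_Jm]; exact coprime_lin 1 hQ m
  obtain ⟨U, h1, h2⟩ := exists_mult hm hf hfd hf0 (Jm m 1) (Jm_upper m 1)
    (fun i => by rw [Jm_diag]; exact one_ne_zero) τ 1 hco (fromBlocks (Jm m 1) 0 0 (qmat τ 1))
    ((cyc_Jm m 1).blocks (cyc_compOf _ _) (by rw [charpoly_qmat]; exact hco))
    (by simp) (by rw [det_sum, hdet, one_mul, det_qmat])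
  obtain ⟨a, ha, hab⟩ := exists_left (h1.trans h2.symm) ((hC.right (Jm m 1)).of_sim h2) d hd
  exact ⟨a, U, ha, by rw [h2.det_eq, det_sum, det_Jm, det_qmat, one_pow, one_mul], hab,
    by rw [h2.charpoly_eq, charpoly_sum, charpoly_Jm, charpoly_qmat]⟩

theorem com_positive {m : ℕ} (hm : 0 < m) {f : F[X]} (hf : f.Monic) (hfd : f.natDegree = m + 2)
    (hdet : (compOf (m + 2) f).det = 1) (τ : F) (hQ : (quad τ 1).eval 1 ≠ 0)
    (hC : CFull (qmat τ (1 : F))) (d : F) (hd : d ≠ 0) : Com (compOf (m + 2) f) d 1 :=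
  let ⟨a, b, ha, hb, hab, _⟩ := exists_positive hm hf hfd hdet τ hQ hC d hd
  ⟨a, b, ha, hb, hab⟩

/-- Coprime blocks merge. -/
theorem sim_merge {a b : ℕ} {f g : F[X]} (hf : f.Monic) (hfd : f.natDegree = a) (hg : g.Monic)
    (hgd : g.natDegree = b) (hco : IsCoprime f g) :
    Sim (fromBlocks (compOf a f) 0 0 (compOf b g)) (compOf (a + b) (f * g)) := by
  refine Cyc.sim ((cyc_compOf a f).blocks (cyc_compOf b g) ?_) (cyc_compOf _ _) ?_
  · rwa [charpoly_compOf hf hfd, charpoly_compOf hg hgd]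
  · rw [charpoly_sum, charpoly_compOf hf hfd, charpoly_compOf hg hgd,
      charpoly_compOf (hf.mul hg) (by rw [hf.natDegree_mul hg, hfd, hgd])]

/-- A companion matrix as an extension. -/
theorem sim_glue {a b : ℕ} {f g : F[X]} (hf : f.Monic)
    (hfd : f.natDegree = a) (hg : g.Monic) (hgd : g.natDegree = b) :
    ∃ E : Matrix (Fin b) (Fin a) F,
      Sim (compOf (a + b) (f * g)) (fromBlocks (compOf b g) E 0 (compOf a f)) := by
  let E : Matrix (Fin b) (Fin a) F := fun i j => if i.val = 0 ∧ j.val + 1 = a then 1 else 0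
  refine ⟨E, ?_⟩
  have h1 : Cyc (fromBlocks (compOf a f) 0 E (compOf b g)) := by
    refine Cyc.of_sim (Sim.submatrix _ finSumFinEquiv.symm)
      (Hess.cyc ⟨fun i j h => ?_, fun i j h => ?_⟩)
    all_goals
      obtain ⟨i, rfl⟩ := finSumFinEquiv.surjective i
      obtain ⟨j, rfl⟩ := finSumFinEquiv.surjective j
      rw [Matrix.submatrix_apply, Equiv.symm_apply_apply, Equiv.symm_apply_apply]
      rcases i with i | i <;> rcases j with j | j <;>
        simp only [finSumFinEquiv_apply_left, finSumFinEquiv_apply_right, Fin.val_castAdd,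
          Fin.val_natAdd] at h <;>
        simp only [fromBlocks_apply₁₁, fromBlocks_apply₁₂, fromBlocks_apply₂₁, fromBlocks_apply₂₂]
    · exact (hess_comp _).1 i j h
    · rfl
    · show (if _ then (1 : F) else 0) = 0
      rw [if_neg (by omega)]
    · exact (hess_comp _).1 i j (by omega)
    · exact (hess_comp _).2 i j h
    · omega
    · show (if _ then (1 : F) else 0) ≠ 0
      rw [if_pos (by omega)]; exact one_ne_zero
    · exact (hess_comp _).2 i j (by omega)
  refine ((cyc_compOf _ _).sim h1 ?_).trans ((Sim.submatrix _ (Equiv.sumComm _ _)).trans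
    (Sim.of_eq ?_))
  · rw [charpoly_fromBlocks_zero₁₂, charpoly_compOf hf hfd, charpoly_compOf hg hgd,
      charpoly_compOf (hf.mul hg) (by rw [hf.natDegree_mul hg, hfd, hgd])]
  · ext (i | i) (j | j) <;> rfl

theorem compOf_two (f : F[X]) : compOf 2 f = !![0, -f.coeff 0; 1, -f.coeff 1] := by
  ext i j
  fin_cases i <;> fin_cases j <;> simp [compOf, comp]

theorem compOf_one (f : F[X]) : compOf 1 f = !![-f.coeff 0] := by
  ext i j
  fin_cases i; fin_cases j; simp [compOf, comp]

theorem Com.map {K : Type*} [Field K] {g : Matrix ι ι K} {δ β : K} (φ : K →+* F)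
    (h : Com g δ β) : Com (g.map φ) (φ δ) (φ β) := by
  obtain ⟨a, b, ha, hb, hab⟩ := h
  refine ⟨a.map φ, b.map φ, by rw [← ha, RingHom.map_det]; rfl, by rw [← hb, RingHom.map_det]; rfl, ?_⟩
  rw [← Matrix.map_mul, ← Matrix.map_mul, ← Matrix.map_mul, hab]

theorem com_scalar_one [Unique ι] (d e : F) (g : Matrix ι ι F) (hg : g = 1) : Com g d e :=
  ⟨diagonal fun _ => d, diagonal fun _ => e, by simp, by simp, by
    rw [hg, Matrix.one_mul, diagonal_mul_diagonal, diagonal_mul_diagonal]
    simp [mul_comm]⟩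

/-- The block matrix of a list of polynomials. -/
def sz : List F[X] → ℕ
  | [] => 0
  | f :: L => f.natDegree + sz L

/-- The block matrix of a list of polynomials. -/
def blks : (L : List F[X]) → Matrix (Fin (sz L)) (Fin (sz L)) F
  | [] => 1
  | f :: L => bsum (compOf f.natDegree f) (blks L)

instance : IsEmpty (Fin (sz ([] : List F[X]))) := inferInstanceAs (IsEmpty (Fin 0))

theorem blks_cons (f : F[X]) (L : List F[X]) :
    Sim (blks (f :: L)) (fromBlocks (compOf f.natDegree f) 0 0 (blks L)) := sim_bsum _ _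

theorem blks_append : ∀ A B : List F[X],
    Sim (blks (A ++ B)) (fromBlocks (blks A) 0 0 (blks B))
  | [], B => (Sim.empty (blks B) (blks ([] : List F[X]))).symm.trans (Sim.comm _ _)
  | f :: A, B => (blks_cons f (A ++ B)).trans (((Sim.refl _).blocks (blks_append A B)).trans
      ((Sim.assoc _ _ _).symm.trans ((blks_cons f A).symm.blocks (Sim.refl _))))

theorem blks_perm {A B : List F[X]} (h : A.Perm B) : Sim (blks A) (blks B) := by
  induction h with
  | nil => exact Sim.refl _
  | cons f _ ih =>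
    exact (blks_cons f _).trans (((Sim.refl _).blocks ih).trans (blks_cons f _).symm)
  | swap f g L =>
    exact (blks_cons g _).trans (((Sim.refl _).blocks (blks_cons f L)).trans
      ((Sim.assoc _ _ _).symm.trans (((Sim.comm _ _).blocks (Sim.refl _)).trans
        ((Sim.assoc _ _ _).trans (((Sim.refl _).blocks (blks_cons g L).symm).trans
          (blks_cons f _).symm)))))
  | trans _ _ ih1 ih2 => exact ih1.trans ih2

theorem blks_singleton (f : F[X]) : Sim (blks [f]) (compOf f.natDegree f) :=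
  (blks_cons f []).trans (Sim.empty _ _)

theorem blks_pair (f g : F[X]) :
    Sim (blks [f, g]) (fromBlocks (compOf f.natDegree f) 0 0 (compOf g.natDegree g)) :=
  (blks_cons f [g]).trans ((Sim.refl _).blocks (blks_singleton g))

theorem bsum_map {K : Type*} [Field K] (φ : K →+* F) {a b : ℕ} (A : Matrix (Fin a) (Fin a) K)
    (B : Matrix (Fin b) (Fin b) K) : (bsum A B).map φ = bsum (A.map φ) (B.map φ) := by
  ext i j
  obtain ⟨i, rfl⟩ := finSumFinEquiv.surjective i
  obtain ⟨j, rfl⟩ := finSumFinEquiv.surjective j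
  rcases i with i | i <;> rcases j with j | j <;> simp [bsum]

/-- A primary polynomial. -/
def Prim (f : F[X]) : Prop :=
  ∃ (p : F[X]) (e : ℕ), p.Monic ∧ Irreducible p ∧ e ≠ 0 ∧ f = p ^ e ∧ f.coeff 0 ≠ 0

theorem Prim.monic {f : F[X]} (h : Prim f) : f.Monic := by
  obtain ⟨p, e, hp, -, -, rfl, -⟩ := h
  exact hp.pow e

theorem Prim.coeff_ne {f : F[X]} (h : Prim f) : f.coeff 0 ≠ 0 := by
  obtain ⟨p, e, -, -, -, -, h0⟩ := h
  exact h0

theorem Prim.pos {f : F[X]} (h : Prim f) : 0 < f.natDegree := by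
  obtain ⟨p, e, hp, hirr, he, rfl, -⟩ := h
  rw [natDegree_pow]
  exact Nat.mul_pos (Nat.pos_of_ne_zero he) hirr.natDegree_pos

/-- Two primary polynomials are coprime or powers of the same prime. -/
theorem Prim.coprime_or {f g : F[X]} (hf : Prim f) (hg : Prim g) :
    IsCoprime f g ∨ ∃ (p : F[X]) (e k : ℕ), p.Monic ∧ Irreducible p ∧ e ≠ 0 ∧ k ≠ 0 ∧
      f = p ^ e ∧ g = p ^ k := by
  obtain ⟨p, e, hp, hpi, he, rfl, -⟩ := hf
  obtain ⟨q, k, hq, hqi, hk, rfl, -⟩ := hg
  by_cases hpq : p = q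
  · exact Or.inr ⟨p, e, k, hp, hpi, he, hk, rfl, by rw [hpq]⟩
  · exact Or.inl ((hpi.coprime_iff_not_dvd.2 fun hd =>
      hpq (eq_of_monic_of_associated hp hq (hpi.associated_of_dvd hqi hd))).pow)

theorem X_add_one_monic : (X + 1 : F[X]).Monic := by simpa using monic_X_add_C (1 : F)

theorem X_add_one_natDegree : (X + 1 : F[X]).natDegree = 1 := by simpa using natDegree_X_add_C (1 : F)

theorem prim_X_add_one_pow {e : ℕ} (he : e ≠ 0) : Prim ((X + 1 : F[X]) ^ e) :=
  ⟨X + 1, e, X_add_one_monic, by simpa using irreducible_X_sub_C (-1 : F), he, rfl,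
    by simp [coeff_X_add_one_pow]⟩


end Cfsg.Agent.H60.Ore
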