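/-
Companion block decomposition of an invertible matrix, and matrices with irreducible companion.
-/
import Cfsg.Agent.H60.Ore.Units
import Cfsg.Agent.H55.GLClassNumber

set_option autoImplicit false
set_option linter.unusedSectionVars false

namespace Cfsg.Agent.H60.Ore

open Matrix Polynomial Module
open Cfsg.Agent.H55.GLClassNumber

variable {F : Type*} [Field F]

theorem cyc_leftMulMatrix {S : Type*} [CommRing S] [Algebra F S] (pb : PowerBasis F S) :
    Cyc (Algebra.leftMulMatrix pb.basis pb.gen) := by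
  refine ⟨pb.basis.repr 1, fun R hR => ?_⟩
  rw [Polynomial.aeval_algHom_apply, Algebra.leftMulMatrix_mulVec_repr, mul_one] at hR
  have h0 : aeval pb.gen R = 0 := by
    refine pb.basis.repr.injective ?_
    rw [map_zero]
    exact DFunLike.coe_injective hR
  rw [charpoly_leftMulMatrix]
  exact minpoly.dvd F pb.gen h0

theorem sim_leftMulMatrix {f : F[X]} (hf : f.Monic) :
    Sim (Algebra.leftMulMatrix (AdjoinRoot.powerBasis hf.ne_zero).basis (AdjoinRoot.root f))
      (compOf f.natDegree f) := by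
  refine (cyc_leftMulMatrix (AdjoinRoot.powerBasis hf.ne_zero)).sim (cyc_compOf _ _) ?_
  rw [charpoly_leftMulMatrix, charpoly_compOf hf rfl]
  show minpoly F (AdjoinRoot.root f) = f
  rw [AdjoinRoot.minpoly_root hf.ne_zero, hf.leadingCoeff, inv_one, map_one, mul_one]

/-- The companion of an irreducible polynomial over a finite field commutes with matrices of every
non-zero determinant. -/
theorem cfull_compOf [Finite F] {h : F[X]} (hm : h.Monic) (hirr : Irreducible h) :
    CFull (compOf h.natDegree h) := by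
  refine CFull.of_sim (sim_leftMulMatrix hm).symm fun d hd => ?_
  have : Fact (Irreducible h) := ⟨hirr⟩
  have : Module.Finite F (AdjoinRoot h) := hm.finite_quotient
  have : Finite (AdjoinRoot h) := Module.finite_of_finite F
  obtain ⟨z, hz⟩ := FiniteField.norm_surjective F (AdjoinRoot h) d
  refine ⟨Algebra.leftMulMatrix (AdjoinRoot.powerBasis hm.ne_zero).basis z, ?_, ?_⟩
  · rw [← map_mul, ← map_mul, mul_comm]
  · rw [← Algebra.norm_eq_matrix_det, hz]

theorem sim_blockDiagonal : ∀ (m : ℕ) (f : Fin m → F[X]),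
    Sim (Matrix.blockDiagonal' fun i => compOf (f i).natDegree (f i)) (blks (List.ofFn f))
  | 0, f => ⟨0, 0, Matrix.ext fun i => (Fin.elim0 i.1), by
      rw [List.ofFn_zero]; exact Matrix.ext fun i => isEmptyElim i, by
      exact Matrix.ext fun i => Fin.elim0 i.1⟩
  | m + 1, f => by
    rw [List.ofFn_succ]
    refine Sim.trans ?_ (((Sim.refl _).blocks
      (sim_blockDiagonal m fun i => f i.succ)).trans (blks_cons _ _).symm)
    let e : Fin (f 0).natDegree ⊕ (Σ i : Fin m, Fin (f i.succ).natDegree) ≃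
        Σ i : Fin (m + 1), Fin (f i).natDegree :=
      { toFun := fun x => match x with
          | .inl a => ⟨0, a⟩
          | .inr a => ⟨a.1.succ, a.2⟩
        invFun := fun x => Fin.cases (motive := fun i => Fin (f i).natDegree →
            Fin (f 0).natDegree ⊕ (Σ i : Fin m, Fin (f i.succ).natDegree))
          (fun a => .inl a) (fun i a => .inr ⟨i, a⟩) x.1 x.2
        left_inv := by rintro (a | ⟨i, a⟩) <;> simp
        right_inv := by
          rintro ⟨i, a⟩
          induction i using Fin.cases <;> simp }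
    refine (Sim.submatrix _ e).trans (Sim.of_eq ?_)
    ext (a | ⟨i, a⟩) (c | ⟨j, c⟩)
    · simp [e, Matrix.blockDiagonal'_apply_eq]
    · simp [e, Matrix.blockDiagonal'_apply_ne _ _ _ (Fin.succ_ne_zero j).symm]
    · simp [e, Matrix.blockDiagonal'_apply_ne _ _ _ (Fin.succ_ne_zero i)]
    · simp only [e, submatrix_apply, Equiv.coe_fn_mk, fromBlocks_apply₂₂]
      by_cases h : i = j
      · subst h
        simp [Matrix.blockDiagonal'_apply_eq]
      · rw [Matrix.blockDiagonal'_apply_ne _ _ _ h,
          Matrix.blockDiagonal'_apply_ne _ _ _ (fun h' => h (Fin.succ_injective _ h'))]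

theorem sim_blockDiagonal' {o : Type} [Fintype o] [DecidableEq o] {a b : o → Type}
    [∀ i, Fintype (a i)] [∀ i, DecidableEq (a i)] [∀ i, Fintype (b i)] [∀ i, DecidableEq (b i)]
    (A : ∀ i, Matrix (a i) (a i) F) (B : ∀ i, Matrix (b i) (b i) F) (h : ∀ i, Sim (A i) (B i)) :
    Sim (Matrix.blockDiagonal' A) (Matrix.blockDiagonal' B) := by
  choose P Q h1 h2 h3 using h
  refine ⟨Matrix.blockDiagonal' P, Matrix.blockDiagonal' Q, ?_, ?_, ?_⟩
  · rw [← Matrix.blockDiagonal'_mul, show (fun i => P i * Q i) = 1 from funext h1,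
      Matrix.blockDiagonal'_one]
  · rw [← Matrix.blockDiagonal'_mul, show (fun i => Q i * P i) = 1 from funext h2,
      Matrix.blockDiagonal'_one]
  · rw [← Matrix.blockDiagonal'_mul, ← Matrix.blockDiagonal'_mul,
      show (fun i => A i * P i) = fun i => P i * B i from funext h3]

/-- Matrices of one endomorphism in two bases are similar. -/
theorem sim_toMatrix {V : Type*} [AddCommGroup V] [Module F V] {ι κ : Type} [Fintype ι]
    [DecidableEq ι] [Fintype κ] [DecidableEq κ] (b : Basis ι F V) (c : Basis κ F V)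
    (T : V →ₗ[F] V) : Sim (LinearMap.toMatrix b b T) (LinearMap.toMatrix c c T) :=
  ⟨b.toMatrix c, c.toMatrix b, Basis.toMatrix_mul_toMatrix_flip b c,
    Basis.toMatrix_mul_toMatrix_flip c b, by
      rw [linearMap_toMatrix_mul_basis_toMatrix, basis_toMatrix_mul_linearMap_toMatrix]⟩

/-- Every invertible matrix is similar to a block matrix of primary companions. -/
theorem exists_blks {n : ℕ} (A : GL (Fin n) F) :
    ∃ L : List F[X], (∀ f ∈ L, Prim f) ∧ sz L = n ∧
      Sim (A : Matrix (Fin n) (Fin n) F) (blks L) := by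
  classical
  obtain ⟨m, f, hf, hsum, ⟨φ⟩⟩ := exists_decomp A
  have hmon : ∀ i, ((f i).1 ^ (f i).2).Monic := fun i => (hf i).1.pow _
  refine ⟨List.ofFn fun i => (f i).1 ^ (f i).2, ?_, ?_⟩
  · intro g hg
    obtain ⟨i, rfl⟩ := List.mem_ofFn.1 hg
    refine ⟨(f i).1, (f i).2, (hf i).1, (hf i).2.1, (hf i).2.2.1, rfl, ?_⟩
    rw [coeff_zero_eq_eval_zero, eval_pow, ← coeff_zero_eq_eval_zero]
    exact pow_ne_zero _ (hf i).2.2.2
  let bs : ∀ i, Basis (Fin ((f i).1 ^ (f i).2).natDegree) F (Piece (f i)) := fun i =>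
    (AdjoinRoot.powerBasis (hmon i).ne_zero).basis
  let a := Matrix.toLin' (A : Matrix (Fin n) (Fin n) F)
  let ψ : (Fin n → F) ≃ₗ[F] ∀ i, Piece (f i) := (Module.AEval'.of a).trans (φ.restrictScalars F)
  let b : Basis (Σ i, Fin ((f i).1 ^ (f i).2).natDegree) F (Fin n → F) := (Pi.basis bs).map ψ.symm
  have hX : ∀ v, ψ (a v) = (X : F[X]) • ψ v := fun v => by
    show φ (Module.AEval'.of a (a v)) = (X : F[X]) • φ (Module.AEval'.of a v)
    rw [← Module.AEval'.X_smul_of, map_smul]
  have hM : LinearMap.toMatrix b b a = Matrix.blockDiagonal' fun i =>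
      Algebra.leftMulMatrix (AdjoinRoot.powerBasis (hmon i).ne_zero).basis
        (AdjoinRoot.root ((f i).1 ^ (f i).2)) := by
    ext ⟨i, x⟩ ⟨j, y⟩
    rw [LinearMap.toMatrix_apply]
    show ((Pi.basis bs).map ψ.symm).repr (a (((Pi.basis bs).map ψ.symm) ⟨j, y⟩)) ⟨i, x⟩ = _
    rw [Basis.map_apply, Basis.map_repr, LinearEquiv.symm_symm, LinearEquiv.trans_apply, hX,
      LinearEquiv.apply_symm_apply, Pi.basis_repr, Pi.basis_apply, Pi.smul_apply]
    by_cases h : i = j
    · subst h
      rw [Pi.single_eq_same]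
      refine Eq.trans ?_ (Matrix.blockDiagonal'_apply_eq _ _ _ _).symm
      exact (Algebra.leftMulMatrix_eq_repr_mul (AdjoinRoot.powerBasis (hmon i).ne_zero).basis
        (AdjoinRoot.root ((f i).1 ^ (f i).2)) x y).symm
    · rw [Pi.single_eq_of_ne h, smul_zero, map_zero, Finsupp.zero_apply]
      exact (Matrix.blockDiagonal'_apply_ne _ _ _ h).symm
  have hsz : ∀ (k : ℕ) (g : Fin k → F[X]), sz (List.ofFn g) = ∑ i, (g i).natDegree := by
    intro k
    induction k with
    | zero => intro g; simp [sz]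
    | succ k ih =>
      intro g
      rw [List.ofFn_succ, Fin.sum_univ_succ]
      show (g 0).natDegree + sz (List.ofFn fun i => g i.succ) = _
      rw [ih]
  refine ⟨?_, ?_⟩
  · rw [hsz, ← hsum]
    exact Finset.sum_congr rfl fun i _ => natDegree_pow _ _
  refine Sim.trans ?_ ((sim_blockDiagonal' _ _ fun i => sim_leftMulMatrix (hmon i)).trans
    (sim_blockDiagonal m fun i => (f i).1 ^ (f i).2))
  rw [← hM]
  refine Sim.trans (Sim.of_eq ?_) (sim_toMatrix (Pi.basisFun F (Fin n)) b a)
  rw [LinearMap.toMatrix_eq_toMatrix', LinearMap.toMatrix'_toLin']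

end Cfsg.Agent.H60.Ore
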