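/-
Commutators over fields with at least four elements, and scalar matrices.
-/
import Cfsg.Agent.H60.Ore.Decomp
import Cfsg.Agent.H55.LevFinal

set_option autoImplicit false
set_option linter.unusedSectionVars false

namespace Cfsg.Agent.H60.Ore.Large

open Matrix Polynomial Module
open Cfsg.Agent.H55

variable {F : Type*} [Field F]
variable {ι κ : Type} [Fintype ι] [DecidableEq ι] [Fintype κ] [DecidableEq κ]

/-- A factorisation `g = x * w⁻¹` with both `x` and `w` similar to `D`. -/
def Pair (g : Matrix ι ι F) (D : Matrix κ κ F) : Prop :=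
  ∃ x y w : Matrix ι ι F, g = x * y ∧ y * w = 1 ∧ Sim x D ∧ Sim w D

theorem Pair.of_sim {μ : Type} [Fintype μ] [DecidableEq μ] {g : Matrix ι ι F} {G : Matrix μ μ F}
    {D : Matrix κ κ F} (h : Sim g G) (hG : Pair G D) : Pair g D := by
  obtain ⟨P, Q, h1, h2, h3⟩ := h
  obtain ⟨x, y, w, hxy, hyw, hx, hw⟩ := hG
  have key : ∀ a b : Matrix μ μ F, P * a * Q * (P * b * Q) = P * (a * b) * Q := fun a b => by
    simp only [Matrix.mul_assoc]
    rw [← Matrix.mul_assoc Q P, h2, Matrix.one_mul]
  have hs : ∀ a : Matrix μ μ F, Sim (P * a * Q) a := fun a =>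
    ⟨P, Q, h1, h2, by rw [Matrix.mul_assoc, h2, Matrix.mul_one]⟩
  refine ⟨P * x * Q, P * y * Q, P * w * Q, ?_, ?_, (hs x).trans hx, (hs w).trans hw⟩
  · rw [key, ← hxy, ← h3, Matrix.mul_assoc, h1, Matrix.mul_one]
  · rw [key, hyw, Matrix.mul_one, h1]

theorem Pair.com {g : Matrix ι ι F} {D : Matrix κ κ F} (h : Pair g D) (hD : CFull D) (δ : F)
    (hδ : δ ≠ 0) : Com g δ D.det := by
  obtain ⟨x, y, w, rfl, hyw, hx, hw⟩ := h
  rw [← hw.det_eq]
  refine com_of_sim ?_ (hD.of_sim hw) δ hδ
  rw [Matrix.mul_assoc, hyw, Matrix.mul_one]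
  exact hx.trans hw.symm

/-- Lifting a factorisation of the Schur complement. -/
theorem Pair.lift {S : Matrix ι ι F} {D : Matrix κ κ F} (hS : Pair S D) {t : F} (ht : t ≠ 0)
    (hco : IsCoprime (X - C t) D.charpoly) (a : Matrix (Fin 1) ι F) (r : Matrix ι (Fin 1) F) :
    Pair (fromBlocks 1 a r (S + r * a)) (fromBlocks (Jm 1 t) 0 0 D) := by
  obtain ⟨x, y, w, rfl, hyw, hx, hw⟩ := hS
  have hT : (t • 1 : Matrix (Fin 1) (Fin 1) F) = Jm 1 t := by
    ext i j; fin_cases i; fin_cases j; simp [Jm]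
  refine ⟨fromBlocks (t • 1) 0 (t • r) x, fromBlocks (t⁻¹ • 1) (t⁻¹ • a) 0 y,
    fromBlocks (t • 1) (-(a * w)) 0 w, ?_, ?_, ?_, ?_⟩
  · simp [fromBlocks_multiply, smul_smul, ht, add_comm]
  · rw [fromBlocks_multiply, ← fromBlocks_one]
    simp [smul_smul, mul_inv_cancel₀ ht, hyw]
  · refine (sim_lower _ x ?_ _).trans ((Sim.of_eq hT).blocks hx)
    rw [hT, hx.charpoly_eq, charpoly_Jm, pow_one]
    exact hco
  · refine (sim_upper _ w ?_ _).trans ((Sim.of_eq hT).blocks hw)
    rw [hT, hw.charpoly_eq, charpoly_Jm, pow_one]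
    exact hco

section EndPart

variable {V : Type*} [AddCommGroup V] [Module F V] [FiniteDimensional F V]

/-- The matrix of an endomorphism in a standard basis. -/
noncomputable def mat (N : Module.End F V) :
    Matrix (Fin (finrank F V)) (Fin (finrank F V)) F :=
  LinearMap.toMatrixAlgEquiv (Module.finBasis F V) N

theorem det_mat (N : Module.End F V) : (mat N).det = LinearMap.det N :=
  LinearMap.det_toMatrix (Module.finBasis F V) N

theorem sim_step (N : Module.End F V) (f : Dual F V) (e1 : V) (h1 : f e1 = 1)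
    (hN1 : f (N e1) = 1) :
    ∃ (a : Matrix (Fin 1) (Fin (finrank F (LinearMap.ker f))) F)
      (r : Matrix (Fin (finrank F (LinearMap.ker f))) (Fin 1) F),
      Sim (mat N) (fromBlocks 1 a r (mat (Lev.schur N f e1 hN1) + r * a)) := by
  let π := Lev.proj f e1 h1
  have hπι : ∀ h : LinearMap.ker f, π h = h := fun h => Subtype.ext (by
    rw [Lev.proj_coe, LinearMap.mem_ker.1 h.2, zero_smul, sub_zero])
  have hπe : π e1 = 0 := Subtype.ext (by simp [π, Lev.proj_coe, h1])
  let E : (F × LinearMap.ker f) ≃ₗ[F] V :=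
    { toFun := fun p => p.1 • e1 + p.2
      map_add' := fun p q => by simp only [Prod.fst_add, Prod.snd_add, add_smul, Submodule.coe_add]; abel
      map_smul' := fun c p => by
        simp only [Prod.smul_fst, Prod.smul_snd, Submodule.coe_smul, smul_eq_mul, RingHom.id_apply,
          smul_add, mul_smul]
      invFun := fun v => (f v, π v)
      left_inv := fun p => by
        refine Prod.ext ?_ ?_
        · simp [h1, LinearMap.mem_ker.1 p.2.2]
        · show π (p.1 • e1 + (p.2 : V)) = p.2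
          rw [map_add, map_smul, hπe, smul_zero, zero_add, hπι]
      right_inv := fun v => by simp [π, Lev.proj_coe] }
  let b1 := Module.finBasis F (LinearMap.ker f)
  let b : Basis (Fin 1 ⊕ Fin (finrank F (LinearMap.ker f))) F V :=
    ((Basis.singleton (Fin 1) F).prod b1).map E
  let r : Matrix (Fin (finrank F (LinearMap.ker f))) (Fin 1) F := fun i _ => b1.repr (π (N e1)) i
  let a : Matrix (Fin 1) (Fin (finrank F (LinearMap.ker f))) F := fun _ j => f (N (b1 j))
  refine ⟨a, r, (sim_toMatrix (Module.finBasis F V) b N).trans (Sim.of_eq ?_)⟩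
  have hS : ∀ w : LinearMap.ker f,
      π (N w) = Lev.schur N f e1 hN1 w + f (N w) • π (N e1) := fun w => by
    refine Subtype.ext ?_
    rw [Submodule.coe_add, Submodule.coe_smul, Lev.schur_coe, Lev.proj_coe, Lev.proj_coe, hN1]
    module
  have hb0 : ∀ i, b (Sum.inl i) = e1 := fun i => by
    show E (((Basis.singleton (Fin 1) F).prod b1) (Sum.inl i)) = e1
    simp [E, Basis.prod_apply]
  have hb1 : ∀ i, b (Sum.inr i) = b1 i := fun i => by
    show E (((Basis.singleton (Fin 1) F).prod b1) (Sum.inr i)) = _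
    simp [E, Basis.prod_apply]
  have hr0 : ∀ v i, b.repr v (Sum.inl i) = f v := fun v i => by
    show ((Basis.singleton (Fin 1) F).prod b1).repr (E.symm v) (Sum.inl i) = _
    rw [Basis.prod_repr_inl, Basis.singleton_repr]
    rfl
  have hr1 : ∀ v i, b.repr v (Sum.inr i) = b1.repr (π v) i := fun v i => by
    show ((Basis.singleton (Fin 1) F).prod b1).repr (E.symm v) (Sum.inr i) = _
    rw [Basis.prod_repr_inr]
    rfl
  ext (i | i) (j | j)
  · rw [LinearMap.toMatrix_apply, hb0, hr0, fromBlocks_apply₁₁, hN1,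
      Subsingleton.elim i j, Matrix.one_apply_eq]
  · rw [LinearMap.toMatrix_apply, hb1, hr0, fromBlocks_apply₁₂]
  · rw [LinearMap.toMatrix_apply, hb0, hr1, fromBlocks_apply₂₁]
  · rw [LinearMap.toMatrix_apply, hb1, hr1, fromBlocks_apply₂₂, hS, map_add, map_smul,
      Finsupp.add_apply, Finsupp.smul_apply, Matrix.add_apply, Matrix.mul_apply, Fin.sum_univ_one,
      smul_eq_mul, mul_comm]
    simp only [mat, LinearMap.toMatrixAlgEquiv_apply]
    rfl

theorem pair_jordan (hK : Lev.Four F) {m : ℕ} (hm : finrank F V = m) (hpos : 1 ≤ m)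
    (N : Module.End F V) (hdet : LinearMap.det N = 1) (hG : 2 ≤ m → Lev.Good N) :
    Pair (mat N) (Jm m (1 : F)) := by
  subst hm
  have : Nontrivial V := Module.finrank_pos_iff.1 (by omega : 0 < finrank F V)
  obtain ⟨c, hc⟩ := exists_ne (0 : V)
  obtain ⟨ρ, hρ⟩ := exists_ne (0 : Dual F V)
  obtain ⟨x, y, hxy, hx0, hxc, hy0, v, hv⟩ := Lev.fac_exists hK _ rfl hpos N hdet hG c ρ hc hρ
  obtain ⟨w, hw⟩ : ∃ w : Module.End F V, y * w = 1 := by
    obtain ⟨u, hu⟩ : IsUnit y := by
      simpa using IsNilpotent.isUnit_one_add (r := y - 1) ⟨_, hy0⟩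
    exact ⟨(u⁻¹ : (Module.End F V)ˣ), by rw [← hu]; exact u.mul_inv⟩
  have hwy : w * y = 1 := mul_eq_one_comm.1 hw
  have hpow : ∀ k, (w - 1) ^ k = (-w) ^ k * (y - 1) ^ k := fun k => by
    have hcomm : Commute (-w) (y - 1) :=
      (show Commute w (y - 1) from (show Commute w y from hwy.trans hw.symm).sub_right
        (Commute.one_right w)).neg_left
    rw [← hcomm.mul_pow]
    congr 1
    rw [neg_mul, mul_sub, hwy, mul_one, neg_sub]
  have key : ∀ z : Module.End F V, (z - 1) ^ finrank F V = 0 →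
      (z - 1) ^ (finrank F V - 1) ≠ 0 → Sim (mat z) (Jm (finrank F V) (1 : F)) := by
    intro z h0 h1
    let L := LinearMap.toMatrixAlgEquiv (Module.finBasis F V)
    have hne : (mat z - 1) ^ (finrank F V - 1) ≠ 0 := fun h => h1 (L.injective (by
      rw [map_pow, map_sub, map_one, map_zero]; exact h))
    obtain ⟨u, hu⟩ : ∃ u, ((mat z - 1) ^ (finrank F V - 1)) *ᵥ u ≠ 0 := by
      by_contra hall
      push Not at hall
      exact hne (Matrix.ext_iff_mulVec.2 fun u => by rw [hall u, Matrix.zero_mulVec])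
    obtain ⟨P, hP⟩ := Lev.exists_conj_jordan (mat z) (by
      show (L z - 1) ^ finrank F V = 0
      rw [← map_one L, ← map_sub, ← map_pow, h0, map_zero]) u hu
    exact ⟨P, ((P⁻¹ : GL (Fin (finrank F V)) F) : Matrix _ _ F), P.mul_inv, P.inv_mul, hP⟩
  refine ⟨mat x, mat y, mat w, by rw [hxy]; exact map_mul _ x y, ?_,
    key x hx0 fun h => hxc (by rw [h]; rfl), key w (by rw [hpow, hy0, mul_zero]) fun h => hv ?_⟩
  · show LinearMap.toMatrixAlgEquiv (Module.finBasis F V) y * LinearMap.toMatrixAlgEquiv _ w = 1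
    rw [← map_mul, hw, map_one]
  · rw [hpow] at h
    have hun : IsUnit ((-w) ^ (finrank F V - 1)) :=
      (((IsUnit.of_mul_eq_one _ hwy) : IsUnit w).neg).pow _
    rw [hun.mul_right_eq_zero.1 h, LinearMap.zero_apply, map_zero]

theorem pair_mid (hK : Lev.Four F) {t : F} (ht : t ≠ 0) (ht1 : t ≠ 1) {m : ℕ}
    (hm : finrank F V = m + 1) (hm1 : 1 ≤ m) (N : Module.End F V) (hdet : LinearMap.det N = 1)
    (hG : Lev.Good N) : Pair (mat N) (fromBlocks (Jm 1 t) 0 0 (Jm m (1 : F))) := by
  have : Nontrivial V := Module.finrank_pos_iff.1 (by omega : 0 < finrank F V)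
  obtain ⟨c, hc⟩ := exists_ne (0 : V)
  obtain ⟨ρ, hρ⟩ := exists_ne (0 : Dual F V)
  obtain ⟨e1, f, h1, hN1, hS⟩ : ∃ (e1 : V) (f : Dual F V) (_ : f e1 = 1) (hN1 : f (N e1) = 1),
      2 ≤ m → Lev.Good (Lev.schur N f e1 hN1) := by
    rcases Nat.lt_or_ge (m + 1) 3 with h | h
    · obtain ⟨e1, f, a, b, -⟩ := Lev.exists_step_two hK N hG (by omega) hc hρ
      exact ⟨e1, f, a, b, fun h2 => by omega⟩
    · rcases Nat.lt_or_ge (m + 1) 4 with h4 | h4
      · obtain ⟨e1, f, a, b, -, -, -, -, g⟩ := Lev.exists_step_three hK N hG hdet (by omega) hc hρ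
        exact ⟨e1, f, a, b, fun _ => g⟩
      · obtain ⟨e1, f, a, b, -, -, -, -, g⟩ := Lev.exists_step_large hK N hG hdet (by omega) hc hρ
        exact ⟨e1, f, a, b, fun _ => g⟩
  obtain ⟨a, r, hs⟩ := sim_step N f e1 h1 hN1
  have hk := Lev.finrank_ker_add_one h1
  refine Pair.of_sim hs ((pair_jordan hK (by omega) hm1 _ (by
    rw [Lev.det_schur N f e1 h1 hN1, hdet]) hS).lift ht ?_ a r)
  rw [charpoly_Jm]
  simpa using coprime_lin_lin ht1 1 m

theorem com_transvection (hn : 3 ≤ finrank F V) (g : Module.End F V) (hdet : LinearMap.det g = 1)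
    (hrk : finrank F (LinearMap.range (g - 1)) ≤ 1) : Com (mat g) 1 1 := by
  by_cases h1 : g = 1
  · rw [h1, mat, map_one]
    exact Com.one
  obtain ⟨u, hu⟩ : ∃ u, (g - 1) u ≠ 0 := by
    by_contra h
    push Not at h
    exact h1 (sub_eq_zero.1 (LinearMap.ext h))
  set a := (g - 1) u with ha
  have hspan : LinearMap.range (g - 1) = F ∙ a :=
    (Submodule.eq_of_le_of_finrank_le
      ((Submodule.span_singleton_le_iff_mem _ _).2 (LinearMap.mem_range_self _ u))
      (by rw [finrank_span_singleton hu]; exact hrk)).symm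
  obtain ⟨φ, hφ⟩ : ∃ φ : Dual F V, ∀ v, (g - 1) v = φ v • a := by
    let e := LinearEquiv.toSpanNonzeroSingleton F V a hu
    refine ⟨e.symm.toLinearMap.comp ((g - 1).codRestrict (F ∙ a) fun v =>
      hspan ▸ LinearMap.mem_range_self _ v), fun v => ?_⟩
    exact (congrArg Subtype.val (e.apply_symm_apply
      ⟨(g - 1) v, hspan ▸ LinearMap.mem_range_self _ v⟩)).symm
  have hg : g = LinearMap.transvection φ a := LinearMap.ext fun v => by
    rw [LinearMap.transvection.apply, ← hφ, LinearMap.sub_apply, Module.End.one_apply]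
    abel
  have hφa : φ a = 0 := by
    rw [hg, LinearMap.transvection.det] at hdet
    linear_combination hdet
  obtain ⟨w, hw, hwa⟩ : ∃ w, φ w = 0 ∧ w ∉ F ∙ a := by
    by_contra h
    push Not at h
    have := Submodule.finrank_mono (fun v hv => h v (LinearMap.mem_ker.1 hv) :
      LinearMap.ker φ ≤ F ∙ a)
    rw [finrank_span_singleton hu] at this
    have := φ.finrank_range_add_finrank_ker
    have := Submodule.finrank_le (LinearMap.range φ)
    rw [finrank_self] at this
    omega
  obtain ⟨ψ, hψw, hψa⟩ : ∃ ψ : Dual F V, ψ w = 1 ∧ ψ a = 0 := by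
    obtain ⟨ψ, h, h'⟩ := Submodule.exists_dual_map_eq_bot_of_notMem hwa inferInstance
    refine ⟨(ψ w)⁻¹ • ψ, by simp [h], ?_⟩
    have : ψ a = 0 := (Submodule.mem_bot F).1
      (h' ▸ Submodule.mem_map_of_mem (Submodule.mem_span_singleton_self a))
    simp [this]
  let A : Module.End F V := LinearMap.transvection ψ a
  let B : Module.End F V := LinearMap.transvection φ w
  refine ⟨mat A, mat B, ?_, ?_, ?_⟩
  · rw [det_mat, LinearMap.transvection.det, hψa, add_zero]
  · rw [det_mat, LinearMap.transvection.det, hw, add_zero]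
  · rw [mat, mat, mat, ← map_mul, ← map_mul, ← map_mul]
    congr 1
    refine LinearMap.ext fun v => ?_
    simp only [A, B, hg, Module.End.mul_apply, LinearMap.transvection.apply, map_add, map_smul,
      hψw, hw, hφa, zero_smul, add_zero, smul_add, one_smul]
    module

end EndPart

variable [Fintype F]

/-- Non-scalar matrices in dimension at least three. -/
theorem com_large (hq : 4 ≤ Fintype.card F) {n : ℕ} (hn : 3 ≤ n) (g : Matrix (Fin n) (Fin n) F)
    (hdet : g.det = 1) (hns : ∀ l : F, g ≠ l • 1) : Com g 1 1 := by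
  classical
  obtain ⟨s, hs0, hs1, hs2⟩ : ∃ s : F, s ≠ 0 ∧ s ≠ 1 ∧ s ≠ -1 := by
    by_contra h
    push Not at h
    have hsub : (Finset.univ : Finset F) ⊆ {0, 1, -1} := fun x _ => by
      simp only [Finset.mem_insert, Finset.mem_singleton]
      by_cases h0 : x = 0
      · exact Or.inl h0
      · by_cases h1 : x = 1
        · exact Or.inr (Or.inl h1)
        · exact Or.inr (Or.inr (h x h0 h1))
    have := (Finset.card_le_card hsub).trans (Finset.card_le_three)
    rw [Finset.card_univ] at this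
    omega
  set N : Module.End F (Fin n → F) := Matrix.toLin' g with hN
  have hfin : finrank F (Fin n → F) = n := Module.finrank_fin_fun F
  have hgs : Sim g (mat N) := (Sim.of_eq (by
    rw [LinearMap.toMatrix_eq_toMatrix', LinearMap.toMatrix'_toLin'])).trans
      (sim_toMatrix (Pi.basisFun F (Fin n)) (Module.finBasis F (Fin n → F)) N)
  have hdN : LinearMap.det N = 1 := by rw [hN, LinearMap.det_toLin', hdet]
  refine Com.of_sim hgs ?_
  by_cases hrk : 2 ≤ finrank F (LinearMap.range (N - 1))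
  swap
  · exact com_transvection (by omega) N hdN (by omega)
  have hG : Lev.Good N := ⟨fun l h => hns l (Matrix.toLin'.injective (by
    rw [← hN, h, map_smul, Matrix.toLin'_one]; rfl)), hrk⟩
  have hK : Lev.Four F := ⟨Finset.univ, by rw [Finset.card_univ]; exact hq⟩
  have : Nontrivial (Fin n → F) := Module.finrank_pos_iff.1 (by omega : 0 < finrank F _)
  obtain ⟨c, hc⟩ := exists_ne (0 : Fin n → F)
  obtain ⟨ρ, hρ⟩ := exists_ne (0 : Dual F (Fin n → F))
  obtain ⟨e1, f, h1, hN1, hS⟩ : ∃ (e1 : Fin n → F) (f : Dual F (Fin n → F)) (_ : f e1 = 1)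
      (hN1 : f (N e1) = 1), Lev.Good (Lev.schur N f e1 hN1) := by
    rcases Nat.lt_or_ge n 4 with h4 | h4
    · obtain ⟨e1, f, a, b, -, -, -, -, g⟩ := Lev.exists_step_three hK N hG hdN (by omega) hc hρ
      exact ⟨e1, f, a, b, g⟩
    · obtain ⟨e1, f, a, b, -, -, -, -, g⟩ := Lev.exists_step_large hK N hG hdN (by omega) hc hρ
      exact ⟨e1, f, a, b, g⟩
  obtain ⟨a, r, hs⟩ := sim_step N f e1 h1 hN1
  have hk := Lev.finrank_ker_add_one h1
  have hsi : s⁻¹ ≠ 1 := fun h => hs1 (inv_eq_one.1 h)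
  have hss : s ≠ s⁻¹ := fun h => by
    have : s * s = 1 := by
      nth_rewrite 1 [h]
      exact inv_mul_cancel₀ hs0
    exact (mul_self_eq_one_iff.1 this).elim hs1 hs2
  obtain ⟨m, hm⟩ : ∃ m, n = m + 2 := ⟨n - 2, by omega⟩
  have hp := (pair_mid hK (inv_ne_zero hs0) hsi (m := m) (by omega) (by omega) _
    (by rw [Lev.det_schur N f e1 h1 hN1, hdN]) hS).lift hs0 (by
      rw [charpoly_sum, charpoly_Jm, charpoly_Jm]
      simpa using (coprime_lin_lin hss 1 1).mul_right (coprime_lin_lin hs1 1 m)) a r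
  have := (hp.of_sim hs).com ((CFull.unique (Jm 1 s)).left _) 1 one_ne_zero
  rwa [det_sum, det_sum, det_Jm, det_Jm, det_Jm, one_pow, mul_one, pow_one, pow_one,
    mul_inv_cancel₀ hs0] at this

theorem cyc_two (A : Matrix (Fin 2) (Fin 2) F) (h : ∀ l : F, A ≠ l • 1) : Cyc A := by
  by_cases h10 : A 1 0 = 0
  swap
  · refine Hess.cyc ⟨fun i j hij => absurd hij (by omega), fun i j hij => ?_⟩
    rwa [show i = 1 from Fin.ext (by simp; omega), show j = 0 from Fin.ext (by simp; omega)]
  by_cases h01 : A 0 1 = 0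
  swap
  · refine Cyc.of_sim (Sim.submatrix A (Equiv.swap 0 1))
      (Hess.cyc ⟨fun i j hij => absurd hij (by omega), fun i j hij => ?_⟩)
    rw [show i = 1 from Fin.ext (by simp; omega), show j = 0 from Fin.ext (by simp; omega)]
    simpa using h01
  have hne : A 0 0 ≠ A 1 1 := fun e => h (A 0 0) (by
    ext i j; fin_cases i <;> fin_cases j <;> simp [h10, h01, e])
  refine Cyc.of_sim ((Sim.of_eq (show A = bsum (Jm 1 (A 0 0)) (Jm 1 (A 1 1)) from ?_)).trans
    (sim_bsum _ _)) ((cyc_Jm _ _).blocks (cyc_Jm _ _) (by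
      rw [charpoly_Jm, charpoly_Jm]; exact coprime_lin_lin hne 1 1))
  ext i j
  fin_cases i <;> fin_cases j <;> simp [bsum, Jm, finSumFinEquiv, Fin.addCases, h10, h01]

theorem com_two (hq : 4 ≤ Fintype.card F) (g : Matrix (Fin 2) (Fin 2) F) (hdet : g.det = 1)
    (hns : ∀ l : F, g ≠ l • 1) : Com g 1 1 := by
  classical
  obtain ⟨r, hr0, hr1, hr2⟩ : ∃ r : F, r ≠ 0 ∧ r ≠ 1 ∧ r ≠ -1 := by
    by_contra h
    push Not at h
    have hsub : (Finset.univ : Finset F) ⊆ {0, 1, -1} := fun x _ => by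
      simp only [Finset.mem_insert, Finset.mem_singleton]
      by_cases h0 : x = 0
      · exact Or.inl h0
      · by_cases h1 : x = 1
        · exact Or.inr (Or.inl h1)
        · exact Or.inr (Or.inr (h x h0 h1))
    have := (Finset.card_le_card hsub).trans (Finset.card_le_three)
    rw [Finset.card_univ] at this
    omega
  set τ := g.trace
  set t := -(r + r⁻¹) with ht
  refine Com.of_sim ((cyc_two g hns).sim (cyc_two !![0, -1; 1, τ] fun l h => ?_) ?_) ?_
  · simpa using congrFun (congrFun h 1) 0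
  · rw [Matrix.charpoly_fin_two, Matrix.charpoly_fin_two, hdet]
    simp [Matrix.det_fin_two, Matrix.trace_fin_two, τ]
  have hcyc : ∀ M : Matrix (Fin 2) (Fin 2) F, M.trace = t → M.det = 1 →
      Sim M (fromBlocks (Jm 1 (-r)) 0 0 (Jm 1 (-r⁻¹))) := by
    intro M hM hM1
    have hne : -r ≠ -r⁻¹ := fun h => by
      have : r * r = 1 := by
        nth_rewrite 2 [neg_injective h]
        exact mul_inv_cancel₀ hr0
      exact (mul_self_eq_one_iff.1 this).elim hr1 hr2
    refine (cyc_two M fun l h => ?_).sim ((cyc_Jm _ _).blocks (cyc_Jm _ _) (by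
      rw [charpoly_Jm, charpoly_Jm]; exact coprime_lin_lin hne 1 1)) ?_
    · rw [h, Matrix.trace_fin_two] at hM
      rw [h, Matrix.det_fin_two] at hM1
      simp at hM hM1
      refine hne ?_
      rcases mul_self_eq_one_iff.1 hM1 with hl | hl <;> rw [hl, ht] at hM <;>
        · have h2 : r * (r + r⁻¹) = r * r + 1 := by rw [mul_add, mul_inv_cancel₀ hr0]
          field_simp at hM ⊢
          first
            | exact absurd (show (r + 1) * (r + 1) = 0 by linear_combination hM)
                (mul_self_ne_zero.2 fun e => hr2 (by linear_combination e))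
            | exact absurd (show (r - 1) * (r - 1) = 0 by linear_combination hM)
                (mul_self_ne_zero.2 fun e => hr1 (by linear_combination e))
    · rw [Matrix.charpoly_fin_two, charpoly_sum, charpoly_Jm, charpoly_Jm, hM, hM1, ht, pow_one,
        pow_one]
      simp only [C_neg, C_add, sub_neg_eq_add, C_1]
      have : (C r : F[X]) * C r⁻¹ = 1 := by rw [← C_mul, mul_inv_cancel₀ hr0, C_1]
      linear_combination -this
  have h := Pair.com (g := !![0, -1; 1, τ]) (D := fromBlocks (Jm 1 (-r)) 0 0 (Jm 1 (-r⁻¹)))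
    ⟨!![0, r; -r⁻¹, t], !![-r, -t - r * τ; 0, -r⁻¹], !![-r⁻¹, t + r * τ; 0, -r], ?_, ?_, ?_, ?_⟩
    ((CFull.unique _).left _) 1 one_ne_zero
  · rwa [det_sum, det_Jm, det_Jm, pow_one, pow_one, neg_mul_neg, mul_inv_cancel₀ hr0] at h
  · ext i j
    fin_cases i <;> fin_cases j <;>
      simp [Matrix.mul_apply, Fin.sum_univ_two, hr0, ht] <;> field_simp <;> ring
  · ext i j
    fin_cases i <;> fin_cases j <;>
      simp [Matrix.mul_apply, Fin.sum_univ_two, hr0] <;> try ring
  · exact hcyc _ (by simp [Matrix.trace_fin_two]) (by rw [Matrix.det_fin_two]; simp [hr0])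
  · exact hcyc _ (by simp [Matrix.trace_fin_two, ht]) (by rw [Matrix.det_fin_two]; simp [hr0])

/-- A scalar matrix of determinant one. -/
theorem com_scalar {n : ℕ} (hn : 0 < n) (l : F) (hdet : l ^ n = 1) :
    Com (l • (1 : Matrix (Fin n) (Fin n) F)) 1 1 := by
  classical
  set r := orderOf l with hr
  have hrn : r ∣ n := orderOf_dvd_of_pow_eq_one hdet
  have hrpos : 0 < r := Nat.pos_of_dvd_of_pos hrn hn
  obtain ⟨m, rfl⟩ := hrn
  set c : F := (-1) ^ (r + 1) with hc
  have hc0 : c ≠ 0 := pow_ne_zero _ (neg_ne_zero.2 one_ne_zero)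
  set P : F[X] := X ^ r - C c with hP
  have hPm : P.Monic := monic_X_pow_sub_C c hrpos.ne'
  have hPd : P.natDegree = r := natDegree_X_pow_sub_C
  have hrF : (r : F) ≠ 0 := by
    intro h0
    have hl0 : l ≠ 0 := fun e => by
      rw [e, zero_pow hn.ne'] at hdet; exact zero_ne_one hdet
    obtain ⟨k, hk⟩ : r ∣ Fintype.card F - 1 :=
      orderOf_dvd_of_pow_eq_one (FiniteField.pow_card_sub_one_eq_one l hl0)
    have h1 := congrArg (fun x : ℕ => (x : F)) hk
    simp only [Nat.cast_sub (Fintype.card_pos), FiniteField.cast_card_eq_zero, Nat.cast_mul, h0,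
      Nat.cast_one, zero_sub, zero_mul] at h1
    exact one_ne_zero (neg_eq_zero.1 h1)
  -- the companion of `X ^ r - c`
  set A := compOf r P with hA
  have hAdet : A.det = 1 := by
    rw [hA, det_compOf hPm hPd, hP]
    rw [coeff_sub, coeff_X_pow, if_neg hrpos.ne, coeff_C_zero, hc, zero_sub, mul_neg, ← pow_add,
      show r + (r + 1) = 2 * r + 1 by omega, pow_succ, pow_mul]
    simp
  have hlA : Sim (l • A) A := by
    have hh : Hess (l • A) := ⟨fun i j h => by
      rw [Matrix.smul_apply, hA, compOf, (hess_comp _).1 i j h, smul_zero], fun i j h => by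
      rw [Matrix.smul_apply]
      exact smul_ne_zero (fun e => by rw [e, zero_pow hn.ne'] at hdet; exact zero_ne_one hdet)
        ((hess_comp _).2 i j h)⟩
    refine hh.cyc.sim (cyc_compOf _ _) ?_
    rw [charpoly_compOf hPm hPd]
    refine hh.charpoly_eq hrpos hPm hPd ?_
    have hA0 := aeval_self_charpoly A
    rw [hA, charpoly_compOf hPm hPd, ← hA] at hA0
    simp only [hP, map_sub, map_pow, aeval_X, aeval_C] at hA0 ⊢
    rw [_root_.smul_pow, show l ^ r = 1 from pow_orderOf_eq_one l, one_smul, hA0,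
      Matrix.zero_mulVec]
  have hAC : CFull A := by
    obtain ⟨h, hhm, hhi, hhd⟩ := Polynomial.exists_monic_irreducible_factor P (fun hu => by
      have := natDegree_eq_zero_of_isUnit hu; omega)
    obtain ⟨k, hk⟩ := hhd
    have hkm : k.Monic := hhm.of_mul_monic_left (hk ▸ hPm)
    have hco : IsCoprime h k := by
      refine hhi.coprime_iff_not_dvd.2 fun hd => hhi.not_isUnit ?_
      refine ((separable_X_pow_sub_C c hrF hc0).squarefree) h ?_
      rw [← hP, hk]
      exact mul_dvd_mul_left h hd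
    have hs := (sim_merge hhm rfl hkm rfl hco).symm
    rw [← hk, ← hhm.natDegree_mul hkm, ← hk, hPd] at hs
    exact ((cfull_compOf hhm hhi).left _).of_sim hs
  let e : Fin (r * m) ≃ Fin r × Fin m := finProdFinEquiv.symm
  let U : Matrix (Fin r × Fin m) (Fin r × Fin m) F := Matrix.blockDiagonal fun _ => A
  have hUdet : U.det = 1 := by simp [U, det_blockDiagonal, hAdet]
  refine Com.of_sim ((Sim.submatrix _ e.symm).trans (Sim.of_eq (by
    ext i j; simp [Matrix.one_apply, e.symm.injective.eq_iff] :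
      (l • (1 : Matrix (Fin (r * m)) (Fin (r * m)) F)).submatrix e.symm e.symm = l • 1))) ?_
  rw [← hUdet]
  refine hUdet.symm ▸ (hUdet ▸ com_of_sim (g := l • 1) (U := U) ?_ ?_ 1 one_ne_zero)
  · rw [Matrix.smul_mul, Matrix.one_mul]
    obtain ⟨Pm, Qm, h1, h2, h3⟩ := hlA
    refine ⟨Matrix.blockDiagonal fun _ => Pm, Matrix.blockDiagonal fun _ => Qm, ?_, ?_, ?_⟩
    · rw [← Matrix.blockDiagonal_mul, show (fun _ : Fin m => Pm * Qm) = 1 from funext fun _ => h1,
        Matrix.blockDiagonal_one]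
    · rw [← Matrix.blockDiagonal_mul, show (fun _ : Fin m => Qm * Pm) = 1 from funext fun _ => h2,
        Matrix.blockDiagonal_one]
    · rw [← Matrix.blockDiagonal_smul, ← Matrix.blockDiagonal_mul, ← Matrix.blockDiagonal_mul]
      exact congrArg _ (funext fun _ => h3)
  · intro d hd
    obtain ⟨C₀, hC₀, hdC₀⟩ := hAC d hd
    have i0 : Fin m := ⟨0, Nat.pos_of_mul_pos_left hn⟩
    refine ⟨Matrix.blockDiagonal (Function.update (fun _ => 1) i0 C₀), ?_, ?_⟩
    · rw [← Matrix.blockDiagonal_mul, ← Matrix.blockDiagonal_mul]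
      refine congrArg _ (funext fun i => ?_)
      by_cases h : i = i0
      · subst h; simp [hC₀]
      · simp [Function.update_of_ne h]
    · rw [det_blockDiagonal, Finset.prod_eq_single i0]
      · rw [Function.update_self, hdC₀]
      · intro i _ h; rw [Function.update_of_ne h, det_one]
      · simp

end Cfsg.Agent.H60.Ore.Large
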