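/-
Over the field with three elements every block matrix of primary companions of determinant one and
dimension at least three is a commutator.
-/
import Cfsg.Agent.H60.Ore.Units

set_option autoImplicit false
set_option linter.unusedSectionVars false
set_option maxRecDepth 8000

namespace Cfsg.Agent.H60.Ore.Three

open Matrix Polynomial

variable {F : Type*} [Field F]
variable {ι κ : Type} [Fintype ι] [DecidableEq ι] [Fintype κ] [DecidableEq κ]

/-- Commutator data with a non-trivial pair of determinants. -/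
def Odd3 (g : Matrix ι ι F) : Prop := Com g (-1) 1

/-- Commutator data with both kinds of determinants. -/
def Both (g : Matrix ι ι F) : Prop := Com g 1 1 ∧ Odd3 g

theorem Both.of_sim {A : Matrix ι ι F} {B : Matrix κ κ F} (h : Sim A B) (hB : Both B) : Both A :=
  ⟨hB.1.of_sim h, hB.2.of_sim h⟩

theorem odd_of_neg {g : Matrix ι ι F} (h : Com g 1 (-1)) : Odd3 g := by
  simpa [Odd3] using h.right_mul.left_mul

theorem both_sum {A : Matrix ι ι F} {B : Matrix κ κ F} (hA : Odd3 A) (hB : Odd3 B) :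
    Both (fromBlocks A 0 0 B) := by
  refine ⟨by simpa using hA.sum hB, ?_⟩
  have h : Com B 1 (-1) := by simpa using (Com.left_mul hB).right_mul
  simpa [Odd3] using (hA.sum h).left_mul

theorem exists_hom [Fintype F] (hq : Fintype.card F = 3) :
    ∃ _ : ZMod 3 →+* F, (3 : F) = 0 ∧ (2 : F) ≠ 0 ∧ ∀ x : F, x ≠ 0 → x = 1 ∨ x = -1 := by
  have h : (3 : F) = 0 := by simpa [hq] using FiniteField.cast_card_eq_zero F
  have : CharP F 3 := (CharP.charP_iff_prime_eq_zero Nat.prime_three).2 (by exact_mod_cast h)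
  refine ⟨ZMod.castHom dvd_rfl F, h, fun h2 => one_ne_zero (α := F) (by linear_combination h - h2),
    fun x hx => ?_⟩
  have := FiniteField.pow_card_sub_one_eq_one x hx
  rw [hq] at this
  exact sq_eq_one_iff.1 this

/-- `[u]`. -/
abbrev sng (u : F) : Matrix (Fin 1) (Fin 1) F := Jm 1 u

theorem both_cert {n : ℕ} (φ : ZMod 3 →+* F) (g b a1 a2 : Matrix (Fin n) (Fin n) (ZMod 3))
    (hb : b.det = 1) (h1 : a1.det = 1) (h2 : a2.det = -1) (e1 : a1 * b = g * b * a1)
    (e2 : a2 * b = g * b * a2) : Both (g.map φ) :=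
  ⟨by simpa using Com.map φ (show Com g 1 1 from ⟨a1, b, h1, hb, e1⟩),
    by simpa [Odd3] using Com.map φ (show Com g (-1) 1 from ⟨a2, b, h2, hb, e2⟩)⟩

theorem both_N (φ : ZMod 3 →+* F) :
    Both ((!![2, 0; 0, 2] : Matrix (Fin 2) (Fin 2) (ZMod 3)).map φ) :=
  both_cert φ _ !![2, 1; 1, 1] !![0, 2; 1, 0] !![2, 1; 0, 1] (by decide) (by decide) (by decide)
    (by decide) (by decide)

theorem both_P1 (φ : ZMod 3 →+* F) :
    Both (bsum ((!![0, 1; 1, 2] : Matrix (Fin 2) (Fin 2) (ZMod 3)).map φ)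
      ((!![0, 1; 1, 2] : Matrix (Fin 2) (Fin 2) (ZMod 3)).map φ)) := by
  rw [← bsum_map]
  exact both_cert φ _ !![2, 2, 1, 0; 2, 0, 0, 0; 0, 2, 0, 2; 2, 1, 0, 2]
    !![0, 2, 0, 1; 1, 2, 0, 2; 2, 0, 1, 0; 0, 0, 1, 2]
    !![0, 2, 0, 1; 0, 0, 0, 1; 2, 1, 0, 0; 0, 0, 1, 0] (by decide) (by decide) (by decide)
    (by decide) (by decide)

theorem both_P2 (φ : ZMod 3 →+* F) :
    Both (bsum ((!![0, 1; 1, 1] : Matrix (Fin 2) (Fin 2) (ZMod 3)).map φ)
      ((!![0, 1; 1, 1] : Matrix (Fin 2) (Fin 2) (ZMod 3)).map φ)) := by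
  rw [← bsum_map]
  exact both_cert φ _ !![2, 2, 0, 1; 0, 1, 1, 1; 0, 1, 2, 1; 2, 1, 1, 2]
    !![0, 0, 1, 1; 0, 2, 0, 1; 2, 0, 2, 2; 0, 0, 1, 0]
    !![0, 1, 0, 2; 1, 1, 2, 2; 0, 2, 1, 2; 0, 0, 0, 1] (by decide) (by decide) (by decide)
    (by decide) (by decide)

theorem swap4 {a b c d : Type} [Fintype a] [DecidableEq a] [Fintype b] [DecidableEq b] [Fintype c]
    [DecidableEq c] [Fintype d] [DecidableEq d] (A : Matrix a a F) (B : Matrix b b F)
    (C : Matrix c c F) (D : Matrix d d F) :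
    Sim (fromBlocks (fromBlocks A 0 0 B) 0 0 (fromBlocks C 0 0 D))
      (fromBlocks (fromBlocks A 0 0 D) 0 0 (fromBlocks C 0 0 B)) := by
  let e : (a ⊕ d) ⊕ (c ⊕ b) ≃ (a ⊕ b) ⊕ (c ⊕ d) :=
    ⟨fun x => match x with
      | .inl (.inl i) => .inl (.inl i) | .inl (.inr i) => .inr (.inr i)
      | .inr (.inl i) => .inr (.inl i) | .inr (.inr i) => .inl (.inr i),
    fun x => match x with
      | .inl (.inl i) => .inl (.inl i) | .inl (.inr i) => .inr (.inr i)
      | .inr (.inl i) => .inr (.inl i) | .inr (.inr i) => .inl (.inr i),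
    by rintro ((_ | _) | (_ | _)) <;> rfl, by rintro ((_ | _) | (_ | _)) <;> rfl⟩
  refine (Sim.submatrix _ e).trans (Sim.of_eq ?_)
  ext ((i | i) | (i | i)) ((j | j) | (j | j)) <;> rfl

theorem swap_head {a b c d : Type} [Fintype a] [DecidableEq a] [Fintype b] [DecidableEq b] [Fintype c]
    [DecidableEq c] [Fintype d] [DecidableEq d] (A : Matrix a a F) (B : Matrix b b F)
    (C : Matrix c c F) (D : Matrix d d F) :
    Sim (fromBlocks A 0 0 (fromBlocks (fromBlocks B 0 0 C) 0 0 D))
      (fromBlocks B 0 0 (fromBlocks (fromBlocks A 0 0 C) 0 0 D)) := by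
  let e : b ⊕ (a ⊕ c) ⊕ d ≃ a ⊕ (b ⊕ c) ⊕ d :=
    ⟨fun x => match x with
      | .inl i => .inr (.inl (.inl i)) | .inr (.inl (.inl i)) => .inl i
      | .inr (.inl (.inr i)) => .inr (.inl (.inr i)) | .inr (.inr i) => .inr (.inr i),
    fun x => match x with
      | .inl i => .inr (.inl (.inl i)) | .inr (.inl (.inl i)) => .inl i
      | .inr (.inl (.inr i)) => .inr (.inl (.inr i)) | .inr (.inr i) => .inr (.inr i),
    by rintro (_ | ((_ | _) | _)) <;> rfl, by rintro (_ | ((_ | _) | _)) <;> rfl⟩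
  refine (Sim.submatrix _ e).trans (Sim.of_eq ?_)
  ext (i | ((i | i) | i)) (j | ((j | j) | j)) <;> rfl

variable [Fintype F] (hq : Fintype.card F = 3)
include hq

theorem cfull_of_neg (A : Matrix ι ι F) (c : Matrix ι ι F) (hc : c * A = A * c) (hd : c.det = -1) :
    CFull A := fun d hd0 => by
  obtain ⟨-, -, -, h⟩ := exists_hom hq
  rcases h d hd0 with rfl | rfl
  · exact ⟨1, by simp, det_one⟩
  · exact ⟨c, hc, hd⟩

/-- A quadratic without roots among the units, for either determinant. -/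
theorem qdata (δ : F) (hδ : δ ≠ 0) :
    ∃ τ : F, (∀ u : F, u ≠ 0 → (quad τ δ).eval u ≠ 0) ∧ CFull (qmat τ δ) := by
  obtain ⟨-, h, hne, hx⟩ := exists_hom hq
  rcases hx δ hδ with rfl | rfl
  · refine ⟨0, fun u hu => ?_, cfull_of_neg hq _ (qmat 0 1 + 1) (by
      rw [Matrix.add_mul, Matrix.mul_add, Matrix.one_mul, Matrix.mul_one]) ?_⟩
    · rcases hx u hu with rfl | rfl <;> simpa [quad, one_add_one_eq_two] using hne
    · rw [qmat, compOf_two, Matrix.det_fin_two]
      simp [quad, Polynomial.coeff_one]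
      linear_combination h
  · refine ⟨1, fun u hu => ?_, cfull_of_neg hq _ (qmat 1 (-1)) rfl (det_qmat _ _)⟩
    rcases hx u hu with rfl | rfl <;> simp [quad]

theorem det_cases {n : ℕ} {f : F[X]} (hf : Prim f) (hn : f.natDegree = n) :
    (compOf n f).det = 1 ∨ (compOf n f).det = -1 := by
  obtain ⟨-, -, -, hx⟩ := exists_hom hq
  refine hx _ ?_
  rw [det_compOf hf.monic hn]
  exact mul_ne_zero (pow_ne_zero _ (neg_ne_zero.2 one_ne_zero)) hf.coeff_ne

theorem both_sng : Both (1 : Matrix (Fin 1) (Fin 1) F) :=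
  ⟨com_scalar_one _ _ _ rfl, com_scalar_one _ _ _ rfl⟩

theorem both_big {m : ℕ} (hm : 0 < m) {f : F[X]} (hf : f.Monic) (hfd : f.natDegree = m + 2)
    (hdet : (compOf (m + 2) f).det = 1) : Both (compOf (m + 2) f) := by
  obtain ⟨-, -, hne, -⟩ := exists_hom hq
  obtain ⟨τ, hev, hC⟩ := qdata hq 1 one_ne_zero
  exact ⟨com_positive hm hf hfd hdet τ (hev 1 one_ne_zero) hC 1 one_ne_zero,
    com_positive hm hf hfd hdet τ (hev 1 one_ne_zero) hC (-1) (neg_ne_zero.2 one_ne_zero)⟩

/-- A positive block. -/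
theorem positive {n : ℕ} {f : F[X]} (hf : Prim f) (hn : f.natDegree = n)
    (hdet : (compOf n f).det = 1) :
    Odd3 (compOf n f) ∧ (n ≠ 2 → Both (compOf n f)) := by
  obtain ⟨-, h3, hne, -⟩ := exists_hom hq
  have := hf.pos
  rcases (show n = 1 ∨ n = 2 ∨ 3 ≤ n by omega) with rfl | rfl | hd
  · have : compOf 1 f = 1 := by
      rw [det_unique] at hdet
      ext i j
      fin_cases i; fin_cases j
      simpa using hdet
    rw [this]
    exact ⟨(both_sng hq).2, fun _ => both_sng hq⟩
  · refine ⟨odd_of_neg ?_, fun h => absurd rfl h⟩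
    rw [det_compOf hf.monic hn] at hdet
    have h0 : f.coeff 0 = 1 := by simpa using hdet
    rw [compOf_two, h0]
    refine ⟨!![1, 2 * -f.coeff 1 + 1; 1, f.coeff 1 - 1], !![1, -f.coeff 1; 0, -1], ?_, ?_, ?_⟩
    · rw [Matrix.det_fin_two_of]
      linear_combination (f.coeff 1 - 1) * h3
    · rw [Matrix.det_fin_two_of]; ring
    · ext i j
      fin_cases i <;> fin_cases j <;> simp [Matrix.mul_apply, Fin.sum_univ_two] <;> ring
  · obtain ⟨m, rfl⟩ : ∃ m, n = m + 2 := ⟨n - 2, by omega⟩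
    have := both_big hq (by omega) hf.monic hn hdet
    exact ⟨this.2, fun _ => this⟩

/-- A block which exchanges the eigenvalue `u` with `-u`. -/
theorem exists_sig {n : ℕ} (hn : n = 1 ∨ 3 ≤ n) {f : F[X]} (hf : Prim f) (hd : f.natDegree = n)
    (hdet : (compOf n f).det = -1) (u β : F) (hu : u ≠ 0) (hβ : β ≠ 0) (h1 : n = 1 → β = u) :
    ∃ (r : ℕ) (R : Matrix (Fin r) (Fin r) F) (U : Matrix (Fin n) (Fin n) F),
      Sim (compOf n f * U) (fromBlocks R 0 0 (sng (-u))) ∧
      Sim U (fromBlocks R 0 0 (sng u)) ∧ U.det = β := by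
  obtain ⟨-, -, hne, hx⟩ := exists_hom hq
  have huu : u ≠ -u := fun e => hu (by
    have h : (2 : F) * u = 0 := by linear_combination e
    exact (mul_eq_zero.1 h).resolve_left hne)
  rcases hn with rfl | hn
  · refine ⟨0, 1, sng u, ?_, ((Sim.comm _ _).trans (Sim.empty _ _)).symm,
      by rw [det_Jm, pow_one, h1 rfl]⟩
    refine (Sim.of_eq ?_).trans ((Sim.comm _ _).trans (Sim.empty _ _)).symm
    rw [det_unique] at hdet
    ext i j
    fin_cases i; fin_cases j
    have hdet' : compOf 1 f 0 0 = -1 := hdet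
    simp [Matrix.mul_apply, hdet', Jm]
  obtain ⟨r, rfl⟩ : ∃ r, n = (r + 1) + 2 := ⟨n - 3, by omega⟩
  have huu2 : u * u = 1 := by rcases hx u hu with rfl | rfl <;> ring
  obtain ⟨τ, hev, hC⟩ := qdata hq (β * u ^ (r + 1)) (mul_ne_zero hβ (pow_ne_zero _ hu))
  set δ := β * u ^ (r + 1) with hδ
  let R := bsum (Jm r u) (qmat τ δ)
  have hRc : R.charpoly = (X - C u) ^ r * quad τ δ := by
    rw [charpoly_bsum, charpoly_Jm, charpoly_qmat]
  have hRcyc : Cyc R := Cyc.of_sim (sim_bsum _ _) ((cyc_Jm r u).blocks (cyc_compOf _ _) (by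
    rw [charpoly_Jm, charpoly_qmat]; exact coprime_lin u (hev u hu) r))
  have hco0 : IsCoprime (bsum (Jm r u) (sng u)).charpoly (quad τ δ) := by
    rw [charpoly_bsum, charpoly_Jm, charpoly_Jm, ← pow_add]
    exact coprime_lin u (hev u hu) _
  obtain ⟨U, hH, hU⟩ := exists_mult (m := r + 1) (by omega) hf.monic hd hf.coeff_ne
    (bsum (Jm r u) (sng u)) (bsum_upper (Jm_upper _ _) (Jm_upper _ _))
    (bsum_diag (fun i => ne_of_eq_of_ne (Jm_diag r u i) hu) (fun i => ne_of_eq_of_ne (Jm_diag 1 u i) hu)) τ δ hco0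
    (fromBlocks R 0 0 (sng (-u))) (hRcyc.blocks (cyc_Jm _ _) (by
      rw [hRc, charpoly_Jm]
      exact (coprime_lin_lin huu r 1).mul_left (coprime_lin (-u) (hev _ (neg_ne_zero.2 hu)) 1).symm))
    (by simp) (by
      rw [det_sum, det_bsum, det_bsum, det_Jm, det_Jm, det_Jm, det_qmat, hdet]; ring)
  have hU' : Sim U (fromBlocks R 0 0 (sng u)) :=
    hU.trans ((((sim_bsum _ _).blocks (Sim.refl _)).trans (Sim.right_comm _ _ _)).trans
      ((sim_bsum _ _).symm.blocks (Sim.refl _)))
  refine ⟨r + 2, R, U, hH, hU', ?_⟩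
  rw [hU'.det_eq, det_sum, det_bsum, det_Jm, det_Jm, det_qmat, hδ]
  calc u ^ r * (β * u ^ (r + 1)) * u ^ 1 = β * (u * u) ^ (r + 1) := by ring
    _ = β := by rw [huu2, one_pow, mul_one]

theorem both_of_mult {g U : Matrix ι ι F} (h : Sim (g * U) U) (hC : CFull U) (hd : U.det = 1) :
    Both g :=
  ⟨hd ▸ com_of_sim h hC 1 one_ne_zero,
    show Com g (-1) 1 from hd ▸ com_of_sim h hC (-1) (neg_ne_zero.2 one_ne_zero)⟩

theorem pair_sig {n k : ℕ} (hn : n = 1 ∨ 3 ≤ n) (hk : 3 ≤ k) {f g : F[X]} (hf : Prim f)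
    (hfd : f.natDegree = n) (hfdet : (compOf n f).det = -1) (hg : Prim g) (hgd : g.natDegree = k)
    (hgdet : (compOf k g).det = -1) : Both (fromBlocks (compOf n f) 0 0 (compOf k g)) := by
  obtain ⟨r, R, U, hH, hU, hd⟩ :=
    exists_sig hq hn hf hfd hfdet 1 1 one_ne_zero one_ne_zero fun _ => rfl
  obtain ⟨r', R', U', hH', hU', hd'⟩ :=
    exists_sig hq (Or.inr hk) hg hgd hgdet (-1) 1 (neg_ne_zero.2 one_ne_zero) one_ne_zero
      (fun h => by omega)
  rw [neg_neg] at hH'
  refine both_of_mult hq (U := fromBlocks U 0 0 U') ?_ ?_ (by rw [det_sum, hd, hd', one_mul])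
  · rw [fromBlocks_multiply]
    simp only [Matrix.mul_zero, Matrix.zero_mul, add_zero, zero_add]
    exact ((hH.blocks hH').trans (swap4 _ _ _ _)).trans (hU.blocks hU').symm
  · exact (((CFull.unique (sng (1 : F))).right R).left _).of_sim (hU.blocks hU')

theorem pair_two {r : ℕ} (hr : Even r) {f g : F[X]} (hf : Prim f) (hfd : f.natDegree = 2)
    (hfdet : (compOf 2 f).det = -1) (hf1 : f.coeff 1 ≠ 0) (hg : Prim g)
    (hgd : g.natDegree = (1 + 1 + r) + 2) (hgdet : (compOf ((1 + 1 + r) + 2) g).det = -1) :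
    Both (fromBlocks (compOf 2 f) 0 0 (compOf ((1 + 1 + r) + 2) g)) := by
  obtain ⟨-, -, hne, hx⟩ := exists_hom hq
  have hm1 : (-1 : F) ≠ 0 := neg_ne_zero.2 one_ne_zero
  have h11 : (1 : F) ≠ -1 := fun e => hne (by linear_combination e)
  have hf0 : f.coeff 0 = -1 := by
    rw [det_compOf hf.monic hfd] at hfdet; simpa using hfdet
  have hf11 : f.coeff 1 * f.coeff 1 = 1 := by rcases hx _ hf1 with e | e <;> rw [e] <;> ring
  let U₁ : Matrix (Fin 2) (Fin 2) F := !![1, f.coeff 1; 0, 1]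
  have hH₁ : Sim (compOf 2 f * U₁) (fromBlocks (sng 1) 0 0 (sng (-1))) := by
    have he : compOf 2 f * U₁ = !![0, 1; 1, 0] := by
      rw [compOf_two, hf0]
      ext i j
      fin_cases i <;> fin_cases j <;> simp [U₁, Matrix.mul_apply, Fin.sum_univ_two]
    rw [he]
    refine Cyc.sim (Hess.cyc ⟨fun i j h => absurd h (by omega), fun i j h => ?_⟩)
      ((cyc_Jm _ _).blocks (cyc_Jm _ _) (by
        rw [charpoly_Jm, charpoly_Jm]; exact coprime_lin_lin h11 1 1)) ?_
    · rw [show i = 1 from Fin.ext (by simp; omega), show j = 0 from Fin.ext (by simp; omega)]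
      simp
    · rw [Matrix.charpoly_fin_two, charpoly_sum, charpoly_Jm, charpoly_Jm]
      simp [Matrix.trace_fin_two, Matrix.det_fin_two]
      ring
  have hU₁ : Sim U₁ (Jm 2 1) := by
    refine ⟨!![f.coeff 1, 0; 0, 1], !![f.coeff 1, 0; 0, 1], ?_, ?_, ?_⟩ <;>
      · ext i j
        fin_cases i <;> fin_cases j <;> simp [U₁, Jm, Matrix.mul_apply, Fin.sum_univ_two, hf11]
  obtain ⟨τ, hev, hC⟩ := qdata hq (-1) hm1
  let U₀ := bsum (bsum (sng (1 : F)) (sng (-1))) (Jm r (-1))
  have hco0 : IsCoprime U₀.charpoly (quad τ (-1)) := by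
    rw [charpoly_bsum, charpoly_bsum, charpoly_Jm, charpoly_Jm, charpoly_Jm]
    exact ((coprime_lin 1 (hev 1 one_ne_zero) 1).mul_left (coprime_lin _ (hev _ hm1) 1)).mul_left
      (coprime_lin _ (hev _ hm1) r)
  have hT : Cyc (fromBlocks (fromBlocks (Jm 2 (1 : F)) 0 0 (Jm r (-1))) 0 0 (qmat τ (-1))) := by
    refine ((cyc_Jm _ _).blocks (cyc_Jm _ _) ?_).blocks (cyc_compOf _ _) ?_
    · rw [charpoly_Jm, charpoly_Jm]; exact coprime_lin_lin h11 2 r
    · rw [charpoly_qmat, charpoly_sum, charpoly_Jm, charpoly_Jm]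
      exact (coprime_lin 1 (hev 1 one_ne_zero) 2).mul_left (coprime_lin _ (hev _ hm1) r)
  obtain ⟨U, hH, hU⟩ := exists_mult (by omega) hg.monic hgd hg.coeff_ne U₀
    (bsum_upper (bsum_upper (Jm_upper _ _) (Jm_upper _ _)) (Jm_upper _ _))
    (bsum_diag (bsum_diag (fun i => ne_of_eq_of_ne (Jm_diag 1 1 i) one_ne_zero)
      (fun i => ne_of_eq_of_ne (Jm_diag 1 (-1) i) hm1)) (fun i => ne_of_eq_of_ne (Jm_diag r (-1) i) hm1))
    τ (-1) hco0 _ hT (by simp)
    (by rw [det_sum, det_sum, det_bsum, det_bsum, det_Jm, det_Jm, det_Jm, det_Jm, det_qmat, hgdet]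
        ring)
  have hU' : Sim (fromBlocks U₁ 0 0 U) (fromBlocks (Jm 2 (1 : F)) 0 0
      (fromBlocks (fromBlocks (fromBlocks (sng 1) 0 0 (sng (-1))) 0 0 (Jm r (-1))) 0 0
        (qmat τ (-1)))) :=
    hU₁.blocks (hU.trans (((sim_bsum _ _).trans ((sim_bsum _ _).blocks (Sim.refl _))).blocks
      (Sim.refl _)))
  refine both_of_mult hq (U := fromBlocks U₁ 0 0 U) ?_ ?_ ?_
  · rw [fromBlocks_multiply]
    simp only [Matrix.mul_zero, Matrix.zero_mul, add_zero, zero_add]
    exact ((hH₁.blocks hH).trans (swap_head _ _ _ _)).trans hU'.symm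
  · exact (((((CFull.unique (sng (1 : F))).left _).left _).left _).right _).of_sim hU'
  · rw [hU'.det_eq, det_sum, det_sum, det_sum, det_sum, det_Jm, det_Jm, det_Jm, det_Jm, det_qmat,
      hr.neg_one_pow]
    ring

theorem natDegree_pair {p : F[X]} (_hp : p.Monic) {e k n m : ℕ} (hn : (p ^ e).natDegree = n)
    (hm : (p ^ k).natDegree = m) : n = e * p.natDegree ∧ m = k * p.natDegree :=
  ⟨by rw [← hn, natDegree_pow], by rw [← hm, natDegree_pow]⟩

/-- A pair of negative blocks. -/
theorem negative_pair {n k : ℕ} {f g : F[X]} (hf : Prim f) (hfd : f.natDegree = n)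
    (hfdet : (compOf n f).det = -1) (hg : Prim g) (hgd : g.natDegree = k)
    (hgdet : (compOf k g).det = -1) : Both (fromBlocks (compOf n f) 0 0 (compOf k g)) := by
  obtain ⟨φ, h3, hne, hx⟩ := exists_hom hq
  have := hf.pos; have := hg.pos
  have h1f : n = 1 → f = X + 1 := by
    rintro rfl
    rw [det_compOf hf.monic hfd] at hfdet
    rw [hf.monic.eq_X_add_C hfd, show f.coeff 0 = 1 by simpa using hfdet, C_1]
  have h1g : k = 1 → g = X + 1 := by
    rintro rfl
    rw [det_compOf hg.monic hgd] at hgdet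
    rw [hg.monic.eq_X_add_C hgd, show g.coeff 0 = 1 by simpa using hgdet, C_1]
  rcases hf.coprime_or hg with hco | ⟨p, e, e', hp, hpi, he, he', hfe, hge⟩
  · refine Both.of_sim (sim_merge hf.monic hfd hg.monic hgd hco) ?_
    have hnk : 3 ≤ n + k := by
      by_contra hlt
      rw [h1f (by omega), h1g (by omega)] at hco
      have := hco.isUnit_of_dvd' dvd_rfl dvd_rfl
      exact absurd (natDegree_eq_zero_of_isUnit this) (by rw [X_add_one_natDegree]; omega)
    obtain ⟨m, hm⟩ : ∃ m, n + k = m + 2 := ⟨n + k - 2, by omega⟩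
    have hd := (sim_merge hf.monic hfd hg.monic hgd hco).det_eq
    rw [det_sum, hfdet, hgdet] at hd
    have hdeg : (f * g).natDegree = n + k := by rw [hf.monic.natDegree_mul hg.monic, hfd, hgd]
    rw [hm] at hdeg hd ⊢
    exact both_big hq (by omega) (hf.monic.mul hg.monic) hdeg (by rw [← hd]; ring)
  -- determinants of prime powers
  have hsign : ∀ {d : ℕ} (i : ℕ), i * p.natDegree = d → (compOf d (p ^ i)).det =
      ((-1) ^ p.natDegree * p.coeff 0) ^ i := by
    intro d i hi
    rw [det_compOf (hp.pow i) (by rw [natDegree_pow, hi]), ← hi, mul_pow, pow_mul',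
      coeff_zero_eq_eval_zero, eval_pow, ← coeff_zero_eq_eval_zero]
  obtain ⟨hn, hk⟩ := natDegree_pair hq hp (hfe ▸ hfd) (hge ▸ hgd)
  have hoddi : ∀ {d : ℕ} (i : ℕ), i * p.natDegree = d → (compOf d (p ^ i)).det = -1 → Odd i := by
    intro d i hi hdet
    by_contra hev
    rw [Nat.not_odd_iff_even] at hev
    have hp0 : p.coeff 0 ≠ 0 := fun h0 => hf.coeff_ne (by
      rw [hfe, coeff_zero_eq_eval_zero, eval_pow, ← coeff_zero_eq_eval_zero, h0, zero_pow he])
    rw [hsign i hi] at hdet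
    have e1 : (1 : F) = -1 := by
      rcases hx _ (mul_ne_zero (pow_ne_zero p.natDegree (neg_ne_zero.2 (one_ne_zero (α := F)))) hp0)
        with h | h <;> rw [h] at hdet
      · simpa using hdet
      · rwa [hev.neg_one_pow] at hdet
    exact hne (by linear_combination e1)
  have ho := hoddi e hn.symm (by rw [← hfe]; exact hfdet)
  have ho' := hoddi e' hk.symm (by rw [← hge]; exact hgdet)
  have hdpos := hpi.natDegree_pos
  rcases Nat.lt_or_ge p.natDegree 3 with hd | hd
  swap
  · exact pair_sig hq (Or.inr (hn ▸ le_mul_of_one_le_of_le (by omega) hd))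
      (hk ▸ le_mul_of_one_le_of_le (by omega) hd) hf hfd hfdet hg hgd hgdet
  rcases (show p.natDegree = 1 ∨ p.natDegree = 2 by omega) with hd1 | hd2
  · rw [hd1, mul_one] at hn hk
    subst hn hk
    rcases (show n = 1 ∨ 3 ≤ n by obtain ⟨i, hi⟩ := ho; omega) with hn1 | hn3 <;>
    rcases (show k = 1 ∨ 3 ≤ k by obtain ⟨i, hi⟩ := ho'; omega) with hk1 | hk3
    · subst hn1 hk1
      refine Both.of_sim (sim_bsum _ _).symm ?_
      have e1 : ∀ x : F[X], x = X + 1 → compOf 1 x = sng (-1) := by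
        rintro x rfl
        rw [compOf_one]; ext i j; fin_cases i; fin_cases j; simp [Jm]
      rw [e1 f (h1f rfl), e1 g (h1g rfl)]
      convert both_N φ using 2
      ext i j
      fin_cases i <;> fin_cases j <;>
        simp [bsum, Jm, finSumFinEquiv, Fin.addCases, map_ofNat,
          show (2 : F) = -1 from by linear_combination h3]
    · exact pair_sig hq (Or.inl hn1) hk3 hf hfd hfdet hg hgd hgdet
    · exact Both.of_sim (Sim.comm _ _) (pair_sig hq (Or.inl hk1) hn3 hg hgd hgdet hf hfd hfdet)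
    · exact pair_sig hq (Or.inr hn3) hk3 hf hfd hfdet hg hgd hgdet
  · have hp1 : p.coeff 1 ≠ 0 := by
      intro h0
      have hroot : ∀ x : F, ¬ p.IsRoot x := fun x hx' => by
        have := degree_eq_one_of_irreducible_of_root hpi hx'
        rw [degree_eq_natDegree hp.ne_zero, hd2] at this
        exact absurd this (by norm_num)
      have hp0 : p.coeff 0 = -1 := by
        have h := hfe ▸ hfdet
        rw [hsign e hn.symm, hd2] at h
        have hp00 : p.coeff 0 ≠ 0 := fun e0 => hroot 0 (by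
          rw [IsRoot, ← coeff_zero_eq_eval_zero, e0])
        rcases hx _ hp00 with h' | h'
        · rw [h'] at h
          exact absurd (show (1 : F) = -1 by simpa using h) fun e1 => hne (by linear_combination e1)
        · exact h'
      refine hroot 1 ?_
      rw [IsRoot, eval_eq_sum_range, hd2]
      simp [Finset.sum_range_succ, h0, hp0, show p.coeff 2 = 1 from hd2 ▸ hp.coeff_natDegree]
    rw [hd2] at hn hk
    rcases (show (e = 1 ∧ n = 2) ∨ 3 ≤ n by obtain ⟨i, hi⟩ := ho; omega) with ⟨he1, hn2⟩ | hn3 <;>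
    rcases (show (e' = 1 ∧ k = 2) ∨ 3 ≤ k by obtain ⟨i, hi⟩ := ho'; omega) with ⟨hk1, hk2⟩ | hk3
    · subst hn2 hk2 he1 hk1
      rw [pow_one] at hfe hge
      rw [hfe] at hfd hfdet hf ⊢
      rw [hge]
      refine Both.of_sim (sim_bsum _ _).symm ?_
      have hc : compOf 2 p = !![0, 1; 1, -p.coeff 1] := by
        rw [compOf_two, show p.coeff 0 = -1 by rw [det_compOf hf.monic hfd] at hfdet; simpa using hfdet]
        simp
      rw [hc]
      rcases hx _ hp1 with h | h <;> rw [h]
      · convert both_P1 φ using 3 <;> ext i j <;> fin_cases i <;> fin_cases j <;>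
          simp [map_ofNat, show (2 : F) = -1 from by linear_combination h3]
      · convert both_P2 φ using 3 <;> ext i j <;> fin_cases i <;> fin_cases j <;> simp
    · subst hn2 he1
      rw [pow_one] at hfe
      subst hfe
      obtain ⟨i, hi⟩ := ho'
      obtain ⟨r, rfl⟩ : ∃ r, k = (1 + 1 + r) + 2 := ⟨k - 4, by omega⟩
      exact pair_two hq ⟨(r / 2), by omega⟩ hf hfd hfdet hp1 hg hgd hgdet
    · subst hk2 hk1
      rw [pow_one] at hge
      subst hge
      obtain ⟨i, hi⟩ := ho
      obtain ⟨r, rfl⟩ : ∃ r, n = (1 + 1 + r) + 2 := ⟨n - 4, by omega⟩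
      exact Both.of_sim (Sim.comm _ _)
        (pair_two hq ⟨(r / 2), by omega⟩ hg hgd hgdet hp1 hf hfd hfdet)
    · exact pair_sig hq (Or.inr hn3) hk3 hf hfd hfdet hg hgd hgdet

theorem det_blks_cases (L : List F[X]) (hL : ∀ f ∈ L, Prim f) :
    (blks L).det = 1 ∨ (blks L).det = -1 := by
  induction L with
  | nil => exact Or.inl (by simp [blks])
  | cons f L ih =>
    rw [(blks_cons f L).det_eq, det_sum]
    rcases det_cases hq (hL f (by simp)) rfl with h | h <;>
      rcases ih (fun g hg => hL g (List.mem_cons_of_mem _ hg)) with h' | h' <;> simp [h, h']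

/-- Every list of primary blocks of determinant one. -/
theorem both_list : ∀ (N : ℕ) (L : List F[X]), L.length = N → (∀ f ∈ L, Prim f) →
    (blks L).det = 1 → L ≠ [] → Odd3 (blks L) ∧ (3 ≤ sz L → Both (blks L)) := by
  classical
  obtain ⟨-, -, hne, -⟩ := exists_hom hq
  intro N
  induction N using Nat.strong_induction_on with
  | h N ih =>
    intro L hlen hL hdet hnil
    by_cases hpos : ∃ f ∈ L, (compOf f.natDegree f).det = 1
    · obtain ⟨f, hf, hfdet⟩ := hpos
      obtain ⟨hodd, hboth⟩ := positive hq (hL f hf) rfl hfdet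
      have hs := (blks_perm (List.perm_cons_erase hf)).trans (blks_cons f (L.erase f))
      by_cases hR : L.erase f = []
      · obtain rfl : L = [f] := List.perm_singleton.1 (hR ▸ List.perm_cons_erase hf)
        have hs1 := blks_singleton f
        refine ⟨Com.of_sim hs1 hodd, fun h3 => Both.of_sim hs1 (hboth ?_)⟩
        simp [sz] at h3
        omega
      · have hRdet : (blks (L.erase f)).det = 1 := by
          rw [hs.det_eq, det_sum, hfdet, one_mul] at hdet
          exact hdet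
        have hlt : (L.erase f).length < N := by
          rw [List.length_erase_of_mem hf, ← hlen]
          exact Nat.sub_lt (List.length_pos_of_mem hf) one_pos
        have h := (ih _ hlt _ rfl (fun g hg => hL g (List.mem_of_mem_erase hg)) hRdet hR).1
        have hb := Both.of_sim hs (both_sum hodd h)
        exact ⟨hb.2, fun _ => hb⟩
    · push Not at hpos
      have hneg : ∀ f ∈ L, (compOf f.natDegree f).det = -1 := fun f hf =>
        (det_cases hq (hL f hf) rfl).resolve_left (hpos f hf)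
      match L with
      | [] => exact absurd rfl hnil
      | [f] =>
        rw [(blks_singleton f).det_eq, hneg f (by simp)] at hdet
        exact absurd hdet fun e => hne (by linear_combination -e)
      | f :: g :: R =>
        have hA := negative_pair hq (hL f (by simp)) rfl (hneg f (by simp)) (hL g (by simp)) rfl
          (hneg g (by simp))
        have hA' : Both (blks [f, g]) := Both.of_sim (blks_pair f g) hA
        by_cases hR : R = []
        · subst hR
          exact ⟨hA'.2, fun _ => hA'⟩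
        have hs := blks_append [f, g] R
        have hRdet : (blks R).det = 1 := by
          rw [show f :: g :: R = [f, g] ++ R from rfl, hs.det_eq, det_sum, (blks_pair f g).det_eq,
            det_sum, hneg f (by simp), hneg g (by simp)] at hdet
          simpa using hdet
        have h := (ih R.length (by simp at hlen; omega) R rfl
          (fun x hx => hL x (List.mem_cons_of_mem _ (List.mem_cons_of_mem _ hx))) hRdet hR).1
        have hb := Both.of_sim hs (both_sum hA'.2 h)
        exact ⟨hb.2, fun _ => hb⟩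

end Cfsg.Agent.H60.Ore.Three
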