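/-
Over the field with two elements every block matrix of primary companions, other than the single
Jordan block of size two, is a commutator.
-/
import Cfsg.Agent.H60.Ore.Units

set_option autoImplicit false
set_option linter.unusedSectionVars false
set_option maxRecDepth 8000

namespace Cfsg.Agent.H60.Ore.Two

open Matrix Polynomial

variable {F : Type*} [Field F]

/-- The map from the prime field. -/
theorem exists_hom (h2 : ∀ x : F, x ≠ 0 → x = 1) : ∃ _ : ZMod 2 →+* F, (2 : F) = 0 := by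
  have h : (2 : F) = 0 := by
    by_contra h
    have := h2 _ h
    exact one_ne_zero (α := F) (by linear_combination this)
  have : CharP F 2 := (CharP.charP_iff_prime_eq_zero Nat.prime_two).2 (by exact_mod_cast h)
  exact ⟨ZMod.castHom dvd_rfl F, h⟩

theorem com_cert {n : ℕ} (φ : ZMod 2 →+* F) (g a b ai bi : Matrix (Fin n) (Fin n) (ZMod 2))
    (ha : a * ai = 1) (hb : b * bi = 1) (hab : a * b = g * b * a) : Com (g.map φ) 1 1 := by
  have key : ∀ x y : Matrix (Fin n) (Fin n) (ZMod 2), x * y = 1 → x.det = 1 := fun x y h => by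
    have h' := congrArg Matrix.det h
    rw [det_mul, det_one] at h'
    exact (show ∀ u v : ZMod 2, u * v = 1 → u = 1 by decide) _ _ h'
  simpa using Com.map φ (show Com g 1 1 from ⟨a, b, key a ai ha, key b bi hb, hab⟩)

/-- The companion of `(X+1)^2`. -/
abbrev Z2 : Matrix (Fin 2) (Fin 2) (ZMod 2) := !![0, 1; 1, 0]

theorem com_A (φ : ZMod 2 →+* F) : Com (bsum (Z2.map φ) ((!![1] : Matrix (Fin 1) (Fin 1) (ZMod 2)).map φ)) 1 1 := by
  rw [← bsum_map]
  exact com_cert φ _
    !![0, 0, 1; 1, 1, 1; 1, 0, 1]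
    !![0, 0, 1; 1, 1, 1; 0, 1, 1]
    !![1, 0, 1; 0, 1, 1; 1, 0, 0]
    !![0, 1, 1; 1, 0, 1; 1, 0, 0]
    (by decide) (by decide) (by decide)

theorem com_C (φ : ZMod 2 →+* F) : Com (bsum (Z2.map φ)
    ((!![0, 0, 1; 1, 0, 1; 0, 1, 1] : Matrix (Fin 3) (Fin 3) (ZMod 2)).map φ)) 1 1 := by
  rw [← bsum_map]
  exact com_cert φ _
    !![0, 0, 1, 0, 1; 0, 1, 1, 1, 0; 0, 0, 1, 1, 0; 0, 1, 1, 0, 0; 1, 0, 0, 0, 1]
    !![0, 0, 0, 1, 1; 1, 1, 1, 1, 1; 1, 1, 0, 1, 0; 1, 1, 0, 0, 0; 0, 1, 0, 1, 0]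
    !![1, 1, 1, 1, 1; 0, 1, 1, 0, 0; 0, 1, 1, 1, 0; 0, 1, 0, 1, 0; 1, 1, 1, 1, 0]
    !![0, 0, 1, 0, 1; 0, 0, 1, 1, 1; 1, 1, 0, 1, 0; 0, 0, 1, 1, 0; 1, 0, 1, 1, 0]
    (by decide) (by decide) (by decide)

theorem com_D (φ : ZMod 2 →+* F) : Com (bsum (Z2.map φ)
    ((!![0, 0, 0, 1; 1, 0, 0, 0; 0, 1, 0, 0; 0, 0, 1, 0] : Matrix (Fin 4) (Fin 4) (ZMod 2)).map φ)) 1 1 := by
  rw [← bsum_map]
  exact com_cert φ _
    !![1, 1, 1, 0, 0, 1; 0, 0, 0, 1, 1, 0; 1, 1, 0, 0, 0, 1; 1, 0, 0, 0, 1, 1; 0, 0, 0, 0, 0, 1; 0, 0, 0, 0, 1, 0]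
    !![1, 1, 0, 0, 0, 0; 1, 1, 0, 1, 0, 0; 1, 1, 0, 1, 0, 1; 1, 1, 1, 1, 0, 0; 0, 0, 0, 0, 1, 1; 1, 0, 1, 1, 0, 1]
    !![0, 0, 0, 1, 1, 1; 0, 0, 1, 1, 0, 1; 1, 0, 1, 0, 0, 0; 0, 1, 0, 0, 0, 1; 0, 0, 0, 0, 0, 1; 0, 0, 0, 0, 1, 0]
    !![1, 1, 1, 1, 0, 1; 0, 1, 1, 1, 0, 1; 0, 1, 0, 1, 0, 0; 1, 1, 0, 0, 0, 0; 0, 1, 1, 0, 1, 0; 0, 1, 1, 0, 0, 0]
    (by decide) (by decide) (by decide)

theorem com_E (φ : ZMod 2 →+* F) : Com (bsum (Z2.map φ) (bsum (Z2.map φ) (Z2.map φ))) 1 1 := by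
  rw [← bsum_map, ← bsum_map]
  exact com_cert φ _
    !![1, 0, 0, 0, 0, 0; 0, 1, 0, 0, 1, 1; 1, 1, 0, 1, 0, 0; 1, 0, 1, 1, 1, 0; 0, 1, 0, 1, 1, 1; 0, 0, 0, 0, 0, 1]
    !![0, 1, 0, 0, 0, 1; 1, 1, 1, 0, 1, 1; 1, 0, 0, 1, 1, 1; 1, 1, 1, 0, 1, 0; 0, 1, 0, 1, 0, 0; 1, 1, 1, 1, 0, 1]
    !![1, 0, 0, 0, 0, 0; 1, 1, 1, 0, 1, 0; 0, 1, 1, 1, 0, 1; 0, 1, 0, 0, 1, 0; 1, 0, 1, 0, 1, 1; 0, 0, 0, 0, 0, 1]
    !![0, 0, 1, 1, 0, 1; 1, 1, 0, 1, 0, 0; 0, 1, 1, 0, 1, 0; 1, 1, 0, 1, 1, 0; 1, 0, 0, 1, 1, 1; 0, 1, 0, 1, 0, 0]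
    (by decide) (by decide) (by decide)

theorem com_Q : Com (!![0, 1; 1, 1] : Matrix (Fin 2) (Fin 2) (ZMod 2)) 1 1 :=
  ⟨!![1, 1; 0, 1], !![0, 1; 1, 0], by decide, by decide, by decide⟩

/-- Two blocks of size two, with an annihilating quartic. -/
theorem pair_data (φ : ZMod 2 →+* F) :
    ∃ a b : Matrix (Fin (2 + 2)) (Fin (2 + 2)) F, a.det = 1 ∧ b.det = 1 ∧
      a * b = bsum (Z2.map φ) (Z2.map φ) * b * a ∧
      aeval (bsum (Z2.map φ) (Z2.map φ) * b) (X ^ 4 + X + 1 : F[X]) = 0 := by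
  let a : Matrix (Fin (2 + 2)) (Fin (2 + 2)) (ZMod 2) := !![1, 1, 0, 0; 1, 1, 1, 0; 1, 0, 0, 1; 0, 0, 0, 1]
  let b : Matrix (Fin (2 + 2)) (Fin (2 + 2)) (ZMod 2) := !![1, 1, 1, 0; 1, 1, 0, 1; 1, 0, 0, 0; 1, 1, 0, 0]
  have ha : a.det = 1 := by decide
  have hb : b.det = 1 := by decide
  have hab : a * b = bsum Z2 Z2 * b * a := by decide
  have hp : (bsum Z2 Z2 * b) * (bsum Z2 Z2 * b) * ((bsum Z2 Z2 * b) * (bsum Z2 Z2 * b)) +
      bsum Z2 Z2 * b + 1 = 0 := by decide
  refine ⟨φ.mapMatrix a, φ.mapMatrix b, by rw [← RingHom.map_det, ha, map_one],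
    by rw [← RingHom.map_det, hb, map_one], ?_, ?_⟩
  · rw [← bsum_map, ← RingHom.mapMatrix_apply, ← map_mul φ.mapMatrix, ← map_mul φ.mapMatrix,
      ← map_mul φ.mapMatrix, hab]
  · rw [← bsum_map, ← RingHom.mapMatrix_apply, ← map_mul φ.mapMatrix]
    simp only [map_add, map_pow, aeval_X, map_one]
    have h := congrArg φ.mapMatrix hp
    rw [map_add, map_add, map_one, map_mul φ.mapMatrix (_ * _) (_ * _), map_mul φ.mapMatrix,
      map_zero] at h
    rw [show (4 : ℕ) = 2 + 2 from rfl, pow_add, pow_two]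
    exact h

variable (h2 : ∀ x : F, x ≠ 0 → x = 1)
include h2

theorem cfull {ι : Type} [Fintype ι] [DecidableEq ι] (A : Matrix ι ι F) : CFull A :=
  fun d hd => ⟨1, by simp, by rw [det_one, h2 d hd]⟩

theorem quad_eval : (quad (1 : F) 1).eval 1 ≠ 0 := by simp [quad]

theorem coeff_zero {f : F[X]} (hf : Prim f) : f.coeff 0 = 1 := h2 _ hf.coeff_ne

theorem det_one_of_prim {f : F[X]} (hf : Prim f) {n : ℕ} (hn : f.natDegree = n) :
    (compOf n f).det = 1 := by
  refine h2 _ ?_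
  rw [det_compOf hf.monic hn]
  exact mul_ne_zero (pow_ne_zero _ (neg_ne_zero.2 one_ne_zero)) hf.coeff_ne

theorem natDegree_J : ((X + 1 : F[X]) ^ 2).natDegree = 2 := by
  rw [natDegree_pow, X_add_one_natDegree]

theorem comp_J (φ : ZMod 2 →+* F) : compOf 2 ((X + 1 : F[X]) ^ 2) = Z2.map φ := by
  obtain ⟨-, h⟩ := exists_hom h2
  rw [compOf_two]
  ext i j
  fin_cases i <;> fin_cases j <;>
    simp [coeff_X_add_one_pow, h,
      show (-1 : F) = 1 from by linear_combination -h]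

theorem sim_J (φ : ZMod 2 →+* F) :
    Sim (compOf ((X + 1 : F[X]) ^ 2).natDegree ((X + 1 : F[X]) ^ 2)) (Z2.map φ) := by
  rw [natDegree_J h2, comp_J h2 φ]
  exact Sim.refl _

/-- Every primary block other than `(X+1)^2`. -/
theorem com_single {f : F[X]} (hf : Prim f) (hne : f ≠ (X + 1) ^ 2) :
    Com (compOf f.natDegree f) 1 1 := by
  obtain ⟨φ, h⟩ := exists_hom h2
  have hone : (-1 : F) = 1 := by linear_combination -h
  rcases Nat.lt_or_ge f.natDegree 3 with hd | hd
  · have := hf.pos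
    rcases (show f.natDegree = 1 ∨ f.natDegree = 2 by omega) with h1 | h1
    · rw [h1, compOf_one, coeff_zero h2 hf, hone]
      refine com_scalar_one 1 1 _ ?_
      ext i j; fin_cases i; fin_cases j; rfl
    · rw [h1, compOf_two, coeff_zero h2 hf, hone]
      by_cases hc : f.coeff 1 = 0
      · refine absurd (Polynomial.ext fun n => ?_) hne
        have hm := hf.monic.coeff_natDegree
        rw [h1] at hm
        rw [coeff_X_add_one_pow]
        match n with
        | 0 => simp [coeff_zero h2 hf]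
        | 1 => simp [hc, h]
        | 2 => simp [hm]
        | n + 3 => rw [coeff_eq_zero_of_natDegree_lt (by omega), Nat.choose_eq_zero_of_lt (by omega),
            Nat.cast_zero]
      · have hh := Com.map φ com_Q
        rw [map_one] at hh
        convert hh using 1
        ext i j
        fin_cases i <;> fin_cases j <;> simp [h2 _ hc, hone]
  · obtain ⟨m, hm⟩ : ∃ m, f.natDegree = m + 2 := ⟨f.natDegree - 2, by omega⟩
    rw [hm]
    exact com_positive (by omega) hf.monic hm (det_one_of_prim h2 hf hm) 1 (quad_eval h2) (cfull h2 _)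
      1 one_ne_zero

/-- The block `(X+1)^2` next to another one. -/
theorem com_mixed {f : F[X]} (hf : Prim f) (hne : f ≠ (X + 1) ^ 2) :
    Com (blks [(X + 1) ^ 2, f]) 1 1 := by
  obtain ⟨φ, h⟩ := exists_hom h2
  have hone : (-1 : F) = 1 := by linear_combination -h
  refine Com.of_sim (blks_pair _ _) ?_
  rw [natDegree_J h2]
  have hJm : ((X + 1 : F[X]) ^ 2).Monic := X_add_one_monic.pow 2
  rcases Prim.coprime_or (prim_X_add_one_pow (F := F) two_ne_zero) hf with hco |
    ⟨p, a, e, hp, hpi, ha, he, hJ, rfl⟩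
  · refine Com.of_sim (sim_merge hJm (natDegree_J h2) hf.monic rfl hco) ?_
    obtain ⟨m, hm⟩ : ∃ m, 2 + f.natDegree = m + 2 := ⟨f.natDegree, by omega⟩
    have := hf.pos
    rw [hm]
    refine com_positive (by omega) (hJm.mul hf.monic)
      (by rw [hJm.natDegree_mul hf.monic, natDegree_J h2, hm]) ?_ 1 (quad_eval h2) (cfull h2 _) 1
      one_ne_zero
    refine h2 _ ?_
    rw [det_compOf (hJm.mul hf.monic) (by rw [hJm.natDegree_mul hf.monic, natDegree_J h2, hm]),
      mul_coeff_zero]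
    exact mul_ne_zero (pow_ne_zero _ (neg_ne_zero.2 one_ne_zero))
      (mul_ne_zero (prim_X_add_one_pow two_ne_zero).coeff_ne hf.coeff_ne)
  · have hpX : p = X + 1 := by
      have hd : p ∣ (X + 1 : F[X]) ^ 2 := hJ ▸ dvd_pow_self p ha
      exact eq_of_monic_of_associated hp X_add_one_monic (hpi.associated_of_dvd
        (by simpa using irreducible_X_sub_C (-1 : F)) (hpi.prime.dvd_of_dvd_pow hd))
    subst hpX
    have he2 : e ≠ 2 := fun h => hne (by rw [h])
    have hde : ((X + 1 : F[X]) ^ e).natDegree = e := by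
      rw [natDegree_pow, X_add_one_natDegree, mul_one]
    rw [hde]
    have hcases : e = 1 ∨ e = 3 ∨ e = 4 ∨ ∃ k, e = k + 5 := by
      rcases Nat.lt_or_ge e 5 with h | h
      · omega
      · exact Or.inr (Or.inr (Or.inr ⟨e - 5, by omega⟩))
    rcases hcases with rfl | rfl | rfl | ⟨k, rfl⟩
    · refine Com.of_sim (sim_bsum _ _).symm ?_
      rw [comp_J h2 φ]
      convert com_A φ using 3
      ext i j; fin_cases i; fin_cases j; simp [compOf, comp, hone]
    · refine Com.of_sim (sim_bsum _ _).symm ?_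
      rw [comp_J h2 φ]
      convert com_C φ using 3
      ext i j
      fin_cases i <;> fin_cases j <;>
        simp [compOf, comp, coeff_X_add_one_pow, Nat.choose, hone,
          show -(3 : F) = 1 from by linear_combination (-2 : F) * h]
    · refine Com.of_sim (sim_bsum _ _).symm ?_
      rw [comp_J h2 φ]
      convert com_D φ using 3
      ext i j
      fin_cases i <;> fin_cases j <;>
        simp [compOf, comp, coeff_X_add_one_pow, Nat.choose, hone,
          show (4 : F) = 0 from by linear_combination (2 : F) * h,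
          show (6 : F) = 0 from by linear_combination (3 : F) * h]
    · have hh : ((X + 1 : F[X]) ^ (k + 3)).natDegree = k + 3 := by
        rw [natDegree_pow, X_add_one_natDegree, mul_one]
      have hhm : ((X + 1 : F[X]) ^ (k + 3)).Monic := X_add_one_monic.pow _
      obtain ⟨E, hE⟩ := sim_glue (a := k + 3) (b := 2) hhm hh hJm (natDegree_J h2)
      rw [← pow_add] at hE
      refine Com.of_sim ((Sim.refl _).blocks hE) ?_
      have hs : Sim (fromBlocks (compOf 2 ((X + 1 : F[X]) ^ 2)) 0 0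
          (fromBlocks (compOf 2 ((X + 1 : F[X]) ^ 2)) E 0 (compOf (k + 3) ((X + 1) ^ (k + 3)))))
          (fromBlocks (bsum (Z2.map φ) (Z2.map φ))
            ((Matrix.fromRows (0 : Matrix (Fin 2) (Fin (k + 3)) F) E).submatrix finSumFinEquiv.symm id)
            0 (compOf (k + 3) ((X + 1) ^ (k + 3)))) := by
        refine (Sim.submatrix _ ((finSumFinEquiv.symm.sumCongr (Equiv.refl _)).trans
          (Equiv.sumAssoc _ _ _))).trans (Sim.of_eq ?_)
        rw [← comp_J h2 φ]
        ext (i | i) (j | j)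
        all_goals try (obtain ⟨i, rfl⟩ := finSumFinEquiv.surjective i)
        all_goals try (obtain ⟨j, rfl⟩ := finSumFinEquiv.surjective j)
        all_goals (rcases i with i | i <;> rcases j with j | j <;> simp [bsum])
      refine Com.of_sim hs ?_
      obtain ⟨a₁, b₁, ha₁, hb₁, hab₁, hp₁⟩ := pair_data φ
      obtain ⟨a₂, b₂, ha₂, hb₂, hab₂, hchi⟩ := exists_positive (m := k + 1) (by omega) hhm hh
        (det_one_of_prim h2 (prim_X_add_one_pow (by omega)) hh) 1 (quad_eval h2) (cfull h2 _) 1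
        one_ne_zero
      have hco : IsCoprime (X ^ 4 + X + 1 : F[X]) b₂.charpoly := by
        rw [hchi, quad, C_1]
        have hC : (2 : F[X]) = 0 := by
          rw [← map_ofNat (C : F →+* F[X]), h, map_zero]
        refine (IsCoprime.pow_right ⟨1, -(X ^ 3 + X ^ 2 + X), ?_⟩).mul_right ⟨1, -(X ^ 2 + X), ?_⟩
        · linear_combination (X + 0 : F[X]) * hC
        · linear_combination (0 : F[X]) * hC
      have := Com.extend ((Matrix.fromRows (0 : Matrix (Fin 2) (Fin (k + 3)) F) E).submatrix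
        finSumFinEquiv.symm id) hab₁ hab₂ _ hp₁ hco
      rwa [ha₁, ha₂, hb₁, hb₂, one_mul] at this

/-- Every list of primary blocks, apart from the exceptional one. -/
theorem com_list (L : List F[X]) (hL : ∀ f ∈ L, Prim f) (hne : L ≠ [(X + 1) ^ 2]) :
    Com (blks L) 1 1 := by
  classical
  obtain ⟨φ, h⟩ := exists_hom h2
  set J : F[X] := (X + 1) ^ 2
  have key : ∀ (k : ℕ) (R : List F[X]), (∀ f ∈ R, Prim f ∧ f ≠ J) → (k = 1 → R ≠ []) →
      Com (blks (List.replicate k J ++ R)) 1 1 := by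
    intro k
    induction k using Nat.strong_induction_on with
    | h k ih =>
      intro R hR hk
      match k, R with
      | 0, [] => exact Com.one
      | 0, f :: R =>
        have := (com_single h2 (hR f (List.mem_cons_self)).1 (hR f (List.mem_cons_self)).2)
        have hr : Com (blks R) 1 1 := by
          clear ih hk this
          induction R with
          | nil => exact Com.one
          | cons g R ihR =>
            refine Com.of_sim (blks_cons g R) ?_
            have h1 := com_single h2 (hR g (by simp)).1 (hR g (by simp)).2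
            have h2' := ihR fun x hx => hR x (by
              simp only [List.mem_cons] at hx ⊢
              tauto)
            simpa using h1.sum h2'
        exact Com.of_sim (blks_cons f R) (by simpa using this.sum hr)
      | 1, [] => exact absurd rfl (hk rfl)
      | 1, f :: R =>
        have hm := com_mixed h2 (hR f (List.mem_cons_self)).1 (hR f (List.mem_cons_self)).2
        have hr := ih 0 (by omega) R (fun x hx => hR x (List.mem_cons_of_mem _ hx)) (by omega)
        exact Com.of_sim (blks_append [J, f] R) (by simpa using hm.sum hr)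
      | k + 2, R =>
        have hJJ : Sim (blks [J, J]) (bsum (Z2.map φ) (Z2.map φ)) :=
          (blks_pair J J).trans (((sim_J h2 φ).blocks (sim_J h2 φ)).trans (sim_bsum _ _).symm)
        by_cases h3 : k = 1 ∧ R = []
        · obtain ⟨rfl, rfl⟩ := h3
          exact Com.of_sim ((blks_cons J [J, J]).trans (((sim_J h2 φ).blocks hJJ).trans
            (sim_bsum _ _).symm)) (com_E φ)
        have hp : Com (blks [J, J]) 1 1 := by
          refine Com.of_sim hJJ ?_
          obtain ⟨a, b, ha, hb, hab, -⟩ := pair_data φ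
          exact ⟨a, b, ha, hb, hab⟩
        have hr := ih k (by omega) R hR fun hk1 hR1 => h3 ⟨hk1, hR1⟩
        exact Com.of_sim (blks_append [J, J] (List.replicate k J ++ R)) (by simpa using hp.sum hr)
  have hperm : (List.replicate (L.count J) J ++ L.filter (fun f => f ≠ J)).Perm L := by
    rw [← List.filter_eq]
    refine (List.Perm.append_left _ ?_).trans (List.filter_append_perm _ L)
    simp
  refine Com.of_sim (blks_perm hperm).symm (key _ _ (fun f hf => ?_) fun h1 h2' => ?_)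
  · rw [List.mem_filter] at hf
    exact ⟨hL f hf.1, by simpa using hf.2⟩
  · rw [h1, h2'] at hperm
    exact hne (List.perm_singleton.1 (by simpa using hperm.symm))

end Cfsg.Agent.H60.Ore.Two
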